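/-
A pair `σ, τ` of automorphisms with `σ³ = τ² = 1`, `τστ = σ⁻¹` and no common fixed point, acting
on a group of order prime to `3`.
-/
import Mathlib

set_option autoImplicit false

open Subgroup

namespace Cfsg.Agent.Lib.FpfSThree23.Base

variable {G : Type*} [Group G]

/-- The operator hypotheses. -/
structure Ops (G : Type*) [Group G] (σ τ : MulAut G) : Prop where
  s3 : ∀ g, σ (σ (σ g)) = g
  t2 : ∀ g, τ (τ g) = g
  rel : ∀ g, τ (σ g) = σ (σ (τ g))
  fpf : ∀ g, σ g = g → τ g = g → g = 1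
  h3 : ¬ 3 ∣ Nat.card G

/-- Invariance under both automorphisms. -/
def Inv (σ τ : MulAut G) (N : Subgroup G) : Prop :=
  (∀ x ∈ N, σ x ∈ N) ∧ ∀ x ∈ N, τ x ∈ N

theorem map_eq_of_maps [Finite G] (φ : MulAut G) {N : Subgroup G} (h : ∀ x ∈ N, φ x ∈ N) :
    N.map φ.toMonoidHom = N := by
  refine Subgroup.eq_of_le_of_card_ge ?_ (card_map_of_injective φ.injective).ge
  rintro _ ⟨x, hx, rfl⟩
  exact h x hx

theorem inv_of_characteristic (σ τ : MulAut G) {N : Subgroup G} (hN : N.Characteristic) :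
    Inv σ τ N := by
  refine ⟨fun x hx => ?_, fun x hx => ?_⟩
  · exact (Subgroup.characteristic_iff_map_le.mp hN σ) ⟨x, hx, rfl⟩
  · exact (Subgroup.characteristic_iff_map_le.mp hN τ) ⟨x, hx, rfl⟩

theorem maps_normalizer [Finite G] (φ : MulAut G) {N : Subgroup G} (h : ∀ x ∈ N, φ x ∈ N) :
    ∀ g ∈ normalizer (N : Set G), φ g ∈ normalizer (N : Set G) := by
  intro g hg
  rw [mem_normalizer_iff]
  intro y
  obtain ⟨x, rfl⟩ := φ.surjective y
  have hiff : ∀ z, φ z ∈ N ↔ z ∈ N := fun z => by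
    refine ⟨fun hz => ?_, h z⟩
    obtain ⟨w, hw, hwz⟩ := (map_eq_of_maps φ h).ge hz
    exact φ.injective hwz ▸ hw
  rw [← map_inv, ← map_mul, ← map_mul, hiff, hiff]
  exact mem_normalizer_iff.1 hg x

theorem Inv.normalizer [Finite G] {σ τ : MulAut G} {N : Subgroup G} (h : Inv σ τ N) :
    Inv σ τ (Subgroup.normalizer (N : Set G)) :=
  ⟨maps_normalizer σ h.1, maps_normalizer τ h.2⟩

namespace Ops

variable {σ τ : MulAut G} (h : Ops G σ τ)
include h

theorem fix_tau {g : G} (hg : σ g = g) : σ (τ g) = τ g := by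
  have h1 : σ (σ (τ g)) = τ g := by rw [← h.rel, hg]
  conv_rhs => rw [← h.s3 (τ g), h1]

variable [Finite G]

theorem tau_eq_inv {g : G} (hg : σ g = g) : τ g = g⁻¹ := by
  let C : Subgroup G := MonoidHom.eqLocus σ.toMonoidHom (MonoidHom.id G)
  let φ : C →* C := (τ.toMonoidHom.comp C.subtype).codRestrict C fun x => h.fix_tau x.2
  have hφ : MonoidHom.FixedPointFree φ := fun x hx =>
    Subtype.ext (h.fpf _ x.2 (congrArg Subtype.val hx))
  exact congrArg Subtype.val (congrFun (MonoidHom.FixedPointFree.coe_eq_inv_of_involutive hφ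
    fun x => Subtype.ext (h.t2 _)) ⟨g, hg⟩)

theorem fix_comm {a b : G} (ha : σ a = a) (hb : σ b = b) : a * b = b * a := by
  have h1 := h.tau_eq_inv (g := a * b) (by rw [map_mul, ha, hb])
  rw [map_mul, h.tau_eq_inv ha, h.tau_eq_inv hb, ← mul_inv_rev, inv_inj] at h1
  exact h1.symm

theorem fix_sq_one {g : G} (hg : σ g = g) (h2 : g ^ 2 = 1) : g = 1 :=
  h.fpf g hg (by rw [h.tau_eq_inv hg, inv_eq_of_mul_eq_one_right (by rw [← sq, h2])])

theorem fix_odd {g : G} (hg : σ g = g) : Odd (orderOf g) := by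
  rw [← Nat.not_even_iff_odd]
  intro he
  obtain ⟨m, hm⟩ := he
  have hm0 : 0 < m := by have := orderOf_pos g; omega
  have h1 := h.fix_sq_one (g := g ^ m) (by rw [map_pow, hg])
    (by rw [← pow_mul, mul_two, ← hm, pow_orderOf_eq_one])
  have := Nat.le_of_dvd hm0 (orderOf_dvd_of_pow_eq_one h1)
  omega

omit h in
theorem exists_fixed_perm {α : Type*} [Finite α] (f : α → α) (hf : ∀ a, f (f (f a)) = a)
    (hc : ¬ 3 ∣ Nat.card α) : ∃ a, f a = a := by
  classical
  haveI := Fintype.ofFinite α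
  haveI : Fact (Nat.Prime 3) := ⟨Nat.prime_three⟩
  let e : Equiv.Perm α := ⟨f, fun a => f (f a), hf, hf⟩
  rw [Nat.card_eq_fintype_card] at hc
  obtain ⟨a, ha⟩ := Equiv.Perm.exists_fixed_point_of_prime (σ := e) (n := 1) hc
    (by ext a; exact hf a)
  exact ⟨a, ha⟩

/-- Fixed points lift from invariant cosets. -/
theorem exists_fix {N : Subgroup G} (hN : ∀ x ∈ N, σ x ∈ N) {g : G} (hg : g⁻¹ * σ g ∈ N) :
    ∃ n ∈ N, σ (g * n) = g * n := by
  let f : N → N := fun n => ⟨g⁻¹ * σ g * σ n, N.mul_mem hg (hN _ n.2)⟩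
  obtain ⟨n, hn⟩ := exists_fixed_perm f (fun n => Subtype.ext (by
    change g⁻¹ * σ g * σ (g⁻¹ * σ g * σ (g⁻¹ * σ g * σ (n : G))) = n
    simp only [map_mul, map_inv, h.s3]
    group)) (fun hd => h.h3 (hd.trans (card_subgroup_dvd_card N)))
  refine ⟨n, n.2, ?_⟩
  have h4 : g⁻¹ * σ g * σ (n : G) = n := congrArg Subtype.val hn
  calc σ (g * n) = g * (g⁻¹ * σ g * σ (n : G)) := by rw [map_mul]; group
    _ = g * n := by rw [h4]

/-- The operators on an invariant subgroup. -/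
theorem restrict {H : Subgroup G} (hH : Inv σ τ H) :
    ∃ σ' τ' : MulAut H, Ops H σ' τ' ∧ (∀ x : H, (σ' x : G) = σ x) ∧
      ∀ x : H, (τ' x : G) = τ x := by
  refine ⟨(σ.subgroupMap H).trans (MulEquiv.subgroupCongr (map_eq_of_maps σ hH.1)),
    (τ.subgroupMap H).trans (MulEquiv.subgroupCongr (map_eq_of_maps τ hH.2)),
    ⟨fun x => Subtype.ext (h.s3 x), fun x => Subtype.ext (h.t2 x), fun x => Subtype.ext (h.rel x),
      fun x hs ht => Subtype.ext (h.fpf x (congrArg Subtype.val hs) (congrArg Subtype.val ht)),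
      fun hd => h.h3 (hd.trans (card_subgroup_dvd_card H))⟩, fun _ => rfl, fun _ => rfl⟩

/-- The operators on the quotient by an invariant normal subgroup. -/
theorem quotient {N : Subgroup G} [N.Normal] (hN : Inv σ τ N) :
    ∃ σ' τ' : MulAut (G ⧸ N), Ops (G ⧸ N) σ' τ' ∧
      (∀ x : G, σ' x = (σ x : G)) ∧ ∀ x : G, τ' x = (τ x : G) := by
  let σ' : MulAut (G ⧸ N) := QuotientGroup.congr N N σ (map_eq_of_maps σ hN.1)
  let τ' : MulAut (G ⧸ N) := QuotientGroup.congr N N τ (map_eq_of_maps τ hN.2)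
  have hs : ∀ x : G, σ' x = (σ x : G) := fun x => rfl
  have ht : ∀ x : G, τ' x = (τ x : G) := fun x => rfl
  refine ⟨σ', τ', ⟨fun x => ?_, fun x => ?_, fun x => ?_, fun x hsx htx => ?_, fun hd =>
    h.h3 (hd.trans (card_quotient_dvd_card N))⟩, hs, ht⟩
  · obtain ⟨g, rfl⟩ := QuotientGroup.mk_surjective x
    simp only [hs, h.s3]
  · obtain ⟨g, rfl⟩ := QuotientGroup.mk_surjective x
    simp only [ht, h.t2]
  · obtain ⟨g, rfl⟩ := QuotientGroup.mk_surjective x
    simp only [hs, ht, h.rel]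
  · obtain ⟨g, rfl⟩ := QuotientGroup.mk_surjective x
    rw [hs, eq_comm, QuotientGroup.eq] at hsx
    obtain ⟨n, hn, hfix⟩ := h.exists_fix hN.1 hsx
    have he : ((g * n : G) : G ⧸ N) = g := by
      rw [QuotientGroup.eq]; simpa using hn
    rw [← he, ht, h.tau_eq_inv hfix, QuotientGroup.eq, inv_inv] at htx
    rw [← he, QuotientGroup.eq_one_iff]
    set c := g * n
    obtain ⟨k, hk⟩ := h.fix_odd hfix
    have h1 : c = (c * c) ^ (k + 1) := by
      rw [← sq, ← pow_mul, show 2 * (k + 1) = orderOf c + 1 by omega, pow_succ, pow_orderOf_eq_one,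
        one_mul]
    rw [h1]
    exact pow_mem htx _

end Ops

end Cfsg.Agent.Lib.FpfSThree23.Base
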