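/-
Central strongly closed subgroups of a Sylow 2-subgroup containing two classes of involutions.

If `A ≤ Z(S)` is strongly closed in `S`, the subgroup `H` contains the centralisers of all
involutions of `A`, and `a`, `b` are non-conjugate involutions of `A`, then every conjugate of `b`
lies in `H`.  Proof: the dihedral group generated by `a` and a conjugate of `b` has a central
involution; induction in its centraliser or in the quotient by it.
-/
import Mathlib

set_option autoImplicit false
set_option linter.style.haveILetI false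

open Subgroup

namespace Cfsg.Agent.Lib.FpfSThree23.Dihedral

universe u

/-- `A` is central in the 2-Sylow subgroup `S` and closed there under conjugation. -/
structure CenClosed {G : Type u} [Group G] (S : Sylow 2 G) (A : Subgroup G) : Prop where
  le : A ≤ (S : Subgroup G)
  central : ∀ a ∈ A, ∀ s ∈ (S : Subgroup G), a * s = s * a
  closed : ∀ a ∈ A, ∀ g : G, g * a * g⁻¹ ∈ (S : Subgroup G) → g * a * g⁻¹ ∈ A

theorem mem_cen {G : Type u} [Group G] {u x : G} :
    x ∈ centralizer ({u} : Set G) ↔ x * u = u * x := by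
  rw [mem_centralizer_iff]
  simp only [Set.mem_singleton_iff, forall_eq]
  exact eq_comm

/-- Two involutions either are conjugate or centralise a third one. -/
theorem exists_central_invol {G : Type u} [Group G] [Finite G] {a y : G} (ha : orderOf a = 2)
    (hy : orderOf y = 2) (hnc : ¬ IsConj a y) :
    ∃ u : G, orderOf u = 2 ∧ u * a = a * u ∧ u * y = y * u := by
  have haa : a * a = 1 := by rw [← sq, ← ha]; exact pow_orderOf_eq_one a
  have hyy : y * y = 1 := by rw [← sq, ← hy]; exact pow_orderOf_eq_one y
  set d := a * y with hd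
  have had : a * d * a⁻¹ = d⁻¹ := by
    rw [hd, mul_inv_rev, inv_eq_of_mul_eq_one_right haa, inv_eq_of_mul_eq_one_right hyy,
      ← mul_assoc a a y, haa, one_mul]
  rcases Nat.even_or_odd (orderOf d) with he | ho
  · obtain ⟨m, hm⟩ := he
    have hm0 : 0 < m := by have := orderOf_pos d; omega
    have hu2 : orderOf (d ^ m) = 2 := by
      rw [orderOf_pow' d hm0.ne', hm, show m + m = m * 2 by omega, Nat.gcd_mul_right_left,
        Nat.mul_div_cancel_left 2 hm0]
    have hui : (d ^ m)⁻¹ = d ^ m := by
      apply inv_eq_of_mul_eq_one_right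
      rw [← sq, ← hu2, pow_orderOf_eq_one]
    have hca : a * d ^ m * a⁻¹ = d ^ m := by rw [← conj_pow, had, inv_pow, hui]
    have hca' : d ^ m * a = a * d ^ m := (mul_inv_eq_iff_eq_mul.1 hca).symm
    refine ⟨d ^ m, hu2, hca', ?_⟩
    have hy' : y = a * d := by rw [hd, ← mul_assoc, haa, one_mul]
    rw [hy', ← mul_assoc, hca', mul_assoc a (d ^ m) d, mul_assoc a d (d ^ m), ← pow_succ,
      ← pow_succ']
  · exfalso
    obtain ⟨m, hm⟩ := ho
    refine hnc (isConj_iff.2 ⟨d ^ m, ?_⟩)
    have h1 : a * (d ^ m)⁻¹ = d ^ m * a := by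
      have h0 : a * (d ^ m)⁻¹ * a⁻¹ = d ^ m := by
        rw [← inv_pow, ← conj_pow, show a * d⁻¹ * a⁻¹ = (a * d * a⁻¹)⁻¹ by group, had, inv_inv]
      exact mul_inv_eq_iff_eq_mul.1 h0
    have h2 : d ^ (2 * m) = d⁻¹ := by
      apply eq_inv_of_mul_eq_one_left
      rw [← pow_succ, ← hm, pow_orderOf_eq_one]
    rw [mul_assoc, h1, ← mul_assoc, ← pow_add, ← two_mul, h2, hd, mul_inv_rev,
      inv_eq_of_mul_eq_one_right haa, inv_eq_of_mul_eq_one_right hyy, mul_assoc, haa, mul_one]

theorem main : ∀ (n : ℕ) (G : Type u) [Group G] [Finite G], Nat.card G = n →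
    ∀ (S : Sylow 2 G) (A H : Subgroup G), CenClosed S A →
    (∀ v ∈ A, orderOf v = 2 → centralizer ({v} : Set G) ≤ H) →
    ∀ a ∈ A, ∀ b ∈ A, orderOf a = 2 → orderOf b = 2 → ¬ IsConj a b →
    ∀ y : G, IsConj b y → y ∈ H := by
  intro n
  induction n using Nat.strong_induction_on with
  | _ n ih =>
    intro G _ _ hn S A H hA hH a ha b hb ha2 hb2 hab y hby
    have hy2 : orderOf y = 2 := by
      obtain ⟨g, rfl⟩ := isConj_iff.1 hby
      exact (SemiconjBy.orderOf_eq g (by simp [SemiconjBy, mul_assoc])).symm.trans hb2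
    -- reduce to a central involution lying in `S`
    suffices key : ∀ (u y : G), orderOf u = 2 → u ∈ (S : Subgroup G) → IsConj b y →
        u * a = a * u → u * y = y * u → y ∈ H by
      obtain ⟨u, hu2, hua, huy⟩ := exists_central_invol ha2 hy2 fun h => hab (h.trans hby.symm)
      have hSC : (S : Subgroup G) ≤ centralizer ({a} : Set G) := fun s hs =>
        mem_cen.2 (hA.central a ha s hs).symm
      have hu' : IsPGroup 2 ↥((zpowers u).subgroupOf (centralizer ({a} : Set G))) :=
        (IsPGroup.of_card (n := 1) (by rw [Nat.card_zpowers, hu2, pow_one]) :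
          IsPGroup 2 (zpowers u)).comap_subtype
      obtain ⟨Q, hQ⟩ := hu'.exists_le_sylow
      obtain ⟨c, hc⟩ := MulAction.exists_smul_eq (centralizer ({a} : Set G)) Q (S.subtype hSC)
      have hcS : (c : G) * u * (c : G)⁻¹ ∈ (S : Subgroup G) := by
        have h1 : c * ⟨u, mem_cen.2 hua⟩ * c⁻¹ ∈
            ((S.subtype hSC : Sylow 2 _) : Subgroup (centralizer ({a} : Set G))) := by
          rw [← hc, Sylow.coe_subgroup_smul]
          simpa using Subgroup.smul_mem_pointwise_smul (a := MulAut.conj c)
            (⟨u, mem_cen.2 hua⟩ : centralizer ({a} : Set G)) (Q : Subgroup _)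
            (hQ (mem_subgroupOf.2 (mem_zpowers u)))
        simpa [Sylow.coe_subtype, mem_subgroupOf] using h1
      have hca : (c : G) * a * (c : G)⁻¹ = a := by
        rw [mem_cen.1 c.2, mul_inv_cancel_right]
      have h2 := key ((c : G) * u * (c : G)⁻¹) ((c : G) * y * (c : G)⁻¹)
        ((SemiconjBy.orderOf_eq (c : G) (by simp [SemiconjBy, mul_assoc])).symm.trans hu2) hcS
        (hby.trans (isConj_iff.2 ⟨c, rfl⟩))
        (by
          have e := congrArg (MulAut.conj (c : G)) hua
          simp only [map_mul, MulAut.conj_apply] at e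
          simpa only [hca] using e)
        (by
          have e := congrArg (MulAut.conj (c : G)) huy
          simpa only [map_mul, MulAut.conj_apply] using e)
      have hcH : (c : G) ∈ H := hH a ha ha2 c.2
      have h3 := H.mul_mem (H.mul_mem (H.inv_mem hcH) h2) hcH
      simpa [mul_assoc] using h3
    intro u y hu2 huS hby hua huy
    have hy2' : orderOf y = 2 := by
      obtain ⟨g, rfl⟩ := isConj_iff.1 hby
      exact (SemiconjBy.orderOf_eq g (by simp [SemiconjBy, mul_assoc])).symm.trans hb2
    by_cases huA : u ∈ A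
    · exact hH u huA hu2 (mem_cen.2 huy.symm)
    have huH : u ∈ H := hH a ha ha2 (mem_cen.2 hua)
    by_cases hcen : centralizer ({u} : Set G) = ⊤
    · -- a central involution outside `A`: induction in the quotient
      have hcomm : ∀ g : G, g * u = u * g := fun g => mem_cen.1 (hcen ▸ mem_top g)
      set Z := zpowers u with hZdef
      haveI hZn : Z.Normal := ⟨fun x hx g => by
        obtain ⟨k, rfl⟩ := mem_zpowers_iff.1 hx
        rw [((show Commute g u from hcomm g).zpow_right k).eq, mul_inv_cancel_right]
        exact hx⟩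
      have hZmem : ∀ x ∈ Z, x = 1 ∨ x = u := fun x hx => by
        classical
        have h2 : u ^ 2 = 1 := by rw [← hu2]; exact pow_orderOf_eq_one u
        obtain ⟨k, hk, rfl⟩ := Finset.mem_image.1
          (((isOfFinOrder_of_finite u).mem_zpowers_iff_mem_range_orderOf).1 hx)
        rw [hu2, Finset.mem_range] at hk
        interval_cases k
        · exact Or.inl (pow_zero _)
        · exact Or.inr (pow_one _)
      set π := QuotientGroup.mk' Z with hπ
      have hπs : Function.Surjective π := QuotientGroup.mk'_surjective Z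
      have hker : ∀ p q : G, π p = π q → q = p ∨ q = p * u := fun p q h => by
        rcases hZmem _ (QuotientGroup.eq.1 h) with e | e
        · exact Or.inl (inv_mul_eq_one.1 e).symm
        · exact Or.inr (eq_mul_of_inv_mul_eq e)
      have hlt : Nat.card (G ⧸ Z) < n := by
        rw [← hn, Subgroup.card_eq_card_quotient_mul_card_subgroup Z]
        exact lt_mul_of_one_lt_right Nat.card_pos (by rw [Nat.card_zpowers, hu2]; norm_num)
      set S' := S.mapSurjective hπs with hS'
      have hS'mem : ∀ g : G, π g ∈ (S' : Subgroup (G ⧸ Z)) → g ∈ (S : Subgroup G) := by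
        intro g hg
        rw [hS', Sylow.coe_mapSurjective] at hg
        obtain ⟨s, hs, hsg⟩ := hg
        rcases hker s g hsg with rfl | rfl
        · exact hs
        · exact mul_mem hs huS
      -- conjugates of `A`-elements never differ by `u`
      have hclash : ∀ v ∈ A, ∀ g : G, ∀ w ∈ A, g * v * g⁻¹ ≠ w * u := by
        intro v hv g w hw e
        have h1 := hA.closed v hv g (by rw [e]; exact mul_mem (hA.le hw) huS)
        rw [e] at h1
        exact huA (by simpa using mul_mem (inv_mem hw) h1)
      have hA' : CenClosed S' (A.map π) := by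
        refine ⟨?_, ?_, ?_⟩
        · rw [hS', Sylow.coe_mapSurjective]; exact map_mono hA.le
        · rintro _ ⟨v, hv, rfl⟩ x hx
          obtain ⟨s, rfl⟩ := hπs x
          rw [← map_mul, ← map_mul, hA.central v hv s (hS'mem s hx)]
        · rintro _ ⟨v, hv, rfl⟩ x hx
          obtain ⟨g, rfl⟩ := hπs x
          rw [← map_inv, ← map_mul, ← map_mul] at hx ⊢
          exact mem_map_of_mem π (hA.closed v hv g (hS'mem _ hx))
      have hord : ∀ v ∈ A, orderOf v = 2 → orderOf (π v) = 2 := by
        intro v hv hv2
        refine orderOf_eq_prime (by rw [← map_pow, ← hv2, pow_orderOf_eq_one, map_one]) ?_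
        rw [Ne, ← map_one π]
        intro e
        rcases hker _ _ e with e' | e'
        · rw [← e'] at hv2; simp at hv2
        · have : u = v⁻¹ := eq_inv_of_mul_eq_one_right e'.symm
          exact huA (this ▸ inv_mem hv)
      have hH' : ∀ v ∈ A.map π, orderOf v = 2 → centralizer ({v} : Set (G ⧸ Z)) ≤ H.map π := by
        rintro _ ⟨v, hv, rfl⟩ hv2 x hx
        obtain ⟨g, rfl⟩ := hπs x
        have hvv : π (v * v) = 1 := by
          rw [map_mul, ← sq, ← hv2, pow_orderOf_eq_one]
        have hv2' : orderOf v = 2 := by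
          refine orderOf_eq_prime ?_ fun e => by rw [e, map_one, orderOf_one] at hv2; norm_num at hv2
          rw [sq]
          rcases hker _ _ (hvv.trans (map_one π).symm) with e | e
          · exact e.symm
          · exfalso
            exact huA (eq_inv_of_mul_eq_one_right e.symm ▸ inv_mem (mul_mem hv hv))
        rw [mem_cen, ← map_mul, ← map_mul] at hx
        rcases hker _ _ hx with e | e
        · exact mem_map_of_mem π (hH v hv hv2' (mem_cen.2 e.symm))
        · exfalso
          refine hclash v hv g⁻¹ v hv ?_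
          rw [inv_inv, mul_assoc, e]
          group
      have hab' : ¬ IsConj (π a) (π b) := by
        intro h
        obtain ⟨x, hx⟩ := isConj_iff.1 h
        obtain ⟨g, rfl⟩ := hπs x
        rw [← map_inv, ← map_mul, ← map_mul] at hx
        rcases hker _ _ hx with e | e
        · exact hab (isConj_iff.2 ⟨g, e.symm⟩)
        · refine hclash a ha g b hb ?_
          rw [e, mul_assoc _ u u, ← sq, ← hu2, pow_orderOf_eq_one, mul_one]
      obtain ⟨h, hh, hhy⟩ := ih _ hlt (G ⧸ Z) rfl S' (A.map π) (H.map π) hA' hH' (π a)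
        (mem_map_of_mem π ha) (π b) (mem_map_of_mem π hb) (hord a ha ha2) (hord b hb hb2) hab' (π y)
        (π.map_isConj hby)
      rcases hker h y hhy with rfl | rfl
      · exact hh
      · exact mul_mem hh huH
    · -- induction in `C(u)`
      set X := centralizer ({u} : Set G) with hX
      have hlt : Nat.card X < n := by
        rw [← hn]
        exact lt_of_le_of_ne (card_le_card_group _) fun e =>
          hcen (eq_top_of_card_eq _ e)
      have hAX : A ≤ X := fun v hv => mem_cen.2 (hA.central v hv u huS)
      obtain ⟨R, hR⟩ :=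
        ((S.2.to_le hA.le).comap_subtype (K := X) :
          IsPGroup 2 ↥(A.subgroupOf X)).exists_le_sylow
      obtain ⟨T, hT⟩ := (R.2.map X.subtype).exists_le_sylow
      obtain ⟨g, hg⟩ := MulAction.exists_smul_eq G T S
      have hgS : ∀ x : X, x ∈ (R : Subgroup X) → g * x * g⁻¹ ∈ (S : Subgroup G) := by
        intro x hx
        rw [← hg, Sylow.coe_subgroup_smul]
        simpa using Subgroup.smul_mem_pointwise_smul (a := MulAut.conj g) (x : G) (T : Subgroup G)
          (hT ⟨x, hx, rfl⟩)
      have hgA : ∀ v : G, v ∈ A ↔ g * v * g⁻¹ ∈ A := by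
        have h1 : ∀ v ∈ A, g * v * g⁻¹ ∈ A := fun v hv =>
          hA.closed v hv g (hgS ⟨v, hAX hv⟩ (hR (mem_subgroupOf.2 hv)))
        have hle : A.map (MulAut.conj g).toMonoidHom ≤ A := by
          rintro _ ⟨v, hv, rfl⟩; exact h1 v hv
        have heq : A.map (MulAut.conj g).toMonoidHom = A :=
          Subgroup.eq_of_le_of_card_ge hle
            (card_map_of_injective (MulAut.conj g).injective).ge
        intro v
        refine ⟨h1 v, fun hv => ?_⟩
        obtain ⟨w, hw, hwv⟩ := heq.ge hv
        exact (MulAut.conj g).injective hwv ▸ hw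
      have hA' : CenClosed R (A.subgroupOf X) := by
        refine ⟨hR, ?_, ?_⟩
        · intro v hv s hs
          have h1 := hA.central _ ((hgA _).1 (mem_subgroupOf.1 hv)) _ (hgS s hs)
          rw [show g * (v : G) * g⁻¹ * (g * (s : G) * g⁻¹) = g * ((v : G) * s) * g⁻¹ by group,
            show g * (s : G) * g⁻¹ * (g * (v : G) * g⁻¹) = g * ((s : G) * v) * g⁻¹ by group] at h1
          exact Subtype.ext (mul_left_cancel (mul_right_cancel h1))
        · intro v hv x hx
          rw [mem_subgroupOf]
          have h1 : g * (x : G) * v * (g * (x : G))⁻¹ ∈ A := by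
            refine hA.closed _ (mem_subgroupOf.1 hv) _ ?_
            have := hgS _ hx
            simpa [mul_assoc] using this
          rw [hgA]
          simpa [mul_assoc] using h1
      have hH' : ∀ v ∈ A.subgroupOf X, orderOf v = 2 →
          centralizer ({v} : Set X) ≤ H.subgroupOf X := fun v hv hv2 x hx =>
        hH v (mem_subgroupOf.1 hv) (by rw [orderOf_coe, hv2])
          (mem_cen.2 (congrArg Subtype.val (mem_cen.1 hx)))
      have hyX : y ∈ X := mem_cen.2 huy.symm
      have hy' : orderOf (⟨y, hyX⟩ : X) = 2 := by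
        obtain ⟨k, hk⟩ := isConj_iff.1 hby
        rw [orderOf_mk, hy2']
      obtain ⟨R', hR'⟩ :=
        (IsPGroup.of_card (n := 1) (by rw [Nat.card_zpowers, hy', pow_one]) :
          IsPGroup 2 (zpowers (⟨y, hyX⟩ : X))).exists_le_sylow
      obtain ⟨x, hx⟩ := MulAction.exists_smul_eq X R' R
      have hzR : x * ⟨y, hyX⟩ * x⁻¹ ∈ (R : Subgroup X) := by
        rw [← hx, Sylow.coe_subgroup_smul]
        simpa using Subgroup.smul_mem_pointwise_smul (a := MulAut.conj x) (⟨y, hyX⟩ : X)
          (R' : Subgroup X) (hR' (mem_zpowers _))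
      set z : X := x * ⟨y, hyX⟩ * x⁻¹ with hz
      have hbz : IsConj b (z : G) := hby.trans (isConj_iff.2 ⟨(x : G), rfl⟩)
      have hzA : (z : G) ∈ A := by
        rw [hgA]
        obtain ⟨k, hk⟩ := isConj_iff.1 hbz
        have h1 := hgS z hzR
        rw [← hk] at h1 ⊢
        have h2 := hA.closed b hb (g * k) (by simpa [mul_assoc] using h1)
        simpa [mul_assoc] using h2
      have hz2 : orderOf z = 2 :=
        (SemiconjBy.orderOf_eq x (by simp [hz, SemiconjBy, mul_assoc])).symm.trans hy'
      have := ih _ hlt X rfl R (A.subgroupOf X) (H.subgroupOf X) hA' hH' ⟨a, hAX ha⟩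
        (mem_subgroupOf.2 ha) z (mem_subgroupOf.2 hzA) (by rw [orderOf_mk, ha2]) hz2
        (fun h => hab ((X.subtype.map_isConj h).trans hbz.symm)) ⟨y, hyX⟩
        (isConj_iff.2 ⟨x⁻¹, by rw [hz]; group⟩)
      exact mem_subgroupOf.1 this

end Cfsg.Agent.Lib.FpfSThree23.Dihedral
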