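/-
A solvable group with a fixed-point-free `S₃` is `O_{2',2}(G) C_G(σ)`.
-/
import Cfsg.Agent.Lib.FpfSThree23.Base
import Cfsg.Agent.Lib.FpfHeight.PrimeOpModule
import Cfsg.Agent.Lib.FourFree.Class2
import Cfsg.Agent.Lib.PSolvable.HallHigman
import Cfsg.Agent.Lib.Coprime.Action
import Cfsg.Agent.Lib.Cores.InvariantSylow

set_option autoImplicit false
set_option linter.style.haveILetI false

open Subgroup Cfsg

namespace Cfsg.Agent.Lib.FpfSThree23.Structure

open Base

universe u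

/-- Automorphisms of an exponent two abelian group as endomorphisms of the module. -/
def endRep (V : Type u) [CommGroup V] [Module (ZMod 2) (Additive V)] :
    MulAut V →* Module.End (ZMod 2) (Additive V) where
  toFun e := (MonoidHom.toAdditive e.toMonoidHom).toZModLinearMap 2
  map_one' := LinearMap.ext fun _ => rfl
  map_mul' _ _ := LinearMap.ext fun _ => rfl

theorem endRep_apply (V : Type u) [CommGroup V] [Module (ZMod 2) (Additive V)] (e : MulAut V)
    (x : V) : endRep V e (Additive.ofMul x) = Additive.ofMul (e x) := rfl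

/-- On an elementary abelian normal 2-subgroup without fixed points of `σ`, the elements `r` and
`σ r` of an invariant odd `p`-subgroup act alike. -/
theorem act_eq {G : Type u} [Group G] [Finite G] {σ : MulAut G} (hs3 : ∀ g, σ (σ (σ g)) = g)
    (W : Subgroup G) [hWn : W.Normal] (hcom : ∀ x ∈ W, ∀ y ∈ W, x * y = y * x)
    (hexp : ∀ x ∈ W, x ^ 2 = 1) (hWs : ∀ x ∈ W, σ x ∈ W) (hfix : ∀ x ∈ W, σ x = x → x = 1)
    {p : ℕ} (hp : p.Prime) (hp2 : p ≠ 2) (hp3 : p ≠ 3) (R : Subgroup G) (hR : IsPGroup p R)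
    (hRs : ∀ r ∈ R, σ r ∈ R) {r : G} (hr : r ∈ R) {x : G} (hx : x ∈ W) :
    σ r * x * (σ r)⁻¹ = r * x * r⁻¹ := by
  classical
  haveI : Fact (Nat.Prime 2) := ⟨Nat.prime_two⟩
  letI : CommGroup W :=
    { W.toGroup with mul_comm := fun a b => Subtype.ext (hcom a a.2 b b.2) }
  letI : Module (ZMod 2) (Additive W) :=
    AddCommGroup.zmodModule fun w : Additive W =>
      congrArg Additive.ofMul (Subtype.ext (hexp _ w.toMul.2) : w.toMul ^ 2 = 1)
  let s : MulAut W := (σ.subgroupMap W).trans (MulEquiv.subgroupCongr (map_eq_of_maps σ hWs))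
  have hs : ∀ w : W, (s w : G) = σ w := fun _ => rfl
  let c : G →* MulAut W := MulAut.conjNormal (H := W)
  have hsc : ∀ g : G, s * c g * s⁻¹ = c (σ g) := by
    intro g
    rw [mul_inv_eq_iff_eq_mul]
    refine MulEquiv.ext fun w => Subtype.ext ?_
    simp only [MulAut.mul_apply, hs, c, MulAut.conjNormal_apply, map_mul, map_inv]
  have hs3' : s ^ 3 = 1 := by
    refine MulEquiv.ext fun w => Subtype.ext ?_
    simp only [pow_succ, pow_zero, one_mul, MulAut.mul_apply, MulAut.one_apply, hs]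
    exact hs3 w
  have hsR : ∀ (y : MulAut W), y ∈ R.map c → s * y * s⁻¹ ∈ R.map c := by
    rintro _ ⟨t, ht, rfl⟩
    rw [hsc]; exact mem_map_of_mem c (hRs t ht)
  have hnorm : s ∈ Subgroup.normalizer ((R.map c : Subgroup (MulAut W)) : Set (MulAut W)) := by
    rw [mem_normalizer_iff]
    intro y
    refine ⟨hsR y, fun hy => ?_⟩
    have h2 := hsR _ (hsR _ hy)
    have e : s * (s * (s * y * s⁻¹) * s⁻¹) * s⁻¹ = (s ^ 3) * y * (s ^ 3)⁻¹ := by
      simp only [pow_succ, pow_zero, one_mul, mul_inv_rev, mul_assoc]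
    rwa [e, hs3', one_mul, inv_one, mul_one] at h2
  have key := FpfHeight.PrimeOpModule.conj_eq_of_no_fixed (v := 2) (endRep W) hp Nat.prime_three
    hp2 (by norm_num) hp3 s hs3' (R.map c) (hR.map c) hnorm
    (fun w hw => by
      obtain ⟨w, rfl⟩ := Additive.ofMul.surjective w
      rw [endRep_apply] at hw
      have h1 := hfix w w.2 ((hs w).symm.trans (congrArg Subtype.val (Additive.ofMul.injective hw)))
      exact congrArg Additive.ofMul (Subtype.ext h1 : w = 1))
    (fun h => hp2 h.1) (c r) (mem_map_of_mem c hr)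
  have h1 := LinearMap.congr_fun key (Additive.ofMul ⟨x, hx⟩)
  rw [hsc, endRep_apply, endRep_apply] at h1
  simpa [c, MulAut.conjNormal_apply] using congrArg Subtype.val (Additive.ofMul.injective h1)

/-- Elements `y⁻¹ σ y` of invariant odd `p`-subgroups centralise invariant normal 2-subgroups. -/
theorem centralizes : ∀ (n : ℕ) (G : Type u) [Group G] [Finite G] (σ τ : MulAut G),
    Nat.card G = n → Ops G σ τ → ∀ (U : Subgroup G), U.Normal → (∀ x ∈ U, σ x ∈ U) →
    (∀ x ∈ U, τ x ∈ U) →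
    IsPGroup 2 U → ∀ (p : ℕ), p.Prime → p ≠ 2 → p ≠ 3 → ∀ (R : Subgroup G), IsPGroup p R →
    (∀ r ∈ R, σ r ∈ R) → ∀ y ∈ R, ∀ u ∈ U, (y⁻¹ * σ y) * u = u * (y⁻¹ * σ y) := by
  intro n
  induction n using Nat.strong_induction_on with
  | _ n ih =>
    intro G _ _ σ τ hn h U hUn hUs hUt hU2 p hp hp2 hp3 R hR hRs y hy u hu
    haveI : Fact (Nat.Prime 2) := ⟨Nat.prime_two⟩
    haveI := hUn
    rcases eq_or_ne U ⊥ with rfl | hUne
    · rw [mem_bot.1 hu, mul_one, one_mul]
    let W : Subgroup G :=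
      { carrier := {x | x ∈ U ∧ x ^ 2 = 1 ∧ ∀ v ∈ U, x * v = v * x}
        one_mem' := ⟨one_mem U, one_pow 2, fun v _ => by rw [one_mul, mul_one]⟩
        mul_mem' := fun {a b} ha hb => ⟨mul_mem ha.1 hb.1, by
          rw [Commute.mul_pow (ha.2.2 b hb.1), ha.2.1, hb.2.1, one_mul],
          fun v hv => by rw [mul_assoc, hb.2.2 v hv, ← mul_assoc, ha.2.2 v hv, mul_assoc]⟩
        inv_mem' := fun {a} ha => ⟨inv_mem ha.1, by rw [inv_pow, ha.2.1, inv_one],
          fun v hv => (Commute.inv_left (ha.2.2 v hv)).eq⟩ }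
    haveI hWn : W.Normal := ⟨fun x hx g => ⟨hUn.conj_mem x hx.1 g,
      by rw [conj_pow, hx.2.1, mul_one, mul_inv_cancel], fun v hv => by
      have h1 := hx.2.2 (g⁻¹ * v * g) (hUn.conj_mem' v hv g)
      calc g * x * g⁻¹ * v = g * (x * (g⁻¹ * v * g)) * g⁻¹ := by group
        _ = v * (g * x * g⁻¹) := by rw [h1]; group⟩⟩
    have hWφ : ∀ φ : MulAut G, (∀ x ∈ U, φ x ∈ U) → ∀ x ∈ W, φ x ∈ W := fun φ hφ x hx =>
      ⟨hφ x hx.1, by rw [← map_pow, hx.2.1, map_one], fun v hv => by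
        obtain ⟨w, hw, rfl⟩ := (map_eq_of_maps φ hφ).ge hv
        rw [MulEquiv.coe_toMonoidHom, ← map_mul, hx.2.2 w hw, map_mul]⟩
    have hfixW : ∀ x ∈ W, σ x = x → x = 1 := fun x hx hxs => h.fix_sq_one hxs hx.2.1
    have h0 : ∀ x ∈ W, (y⁻¹ * σ y) * x * (y⁻¹ * σ y)⁻¹ = x := fun x hx => by
      rw [show (y⁻¹ * σ y) * x * (y⁻¹ * σ y)⁻¹ = y⁻¹ * (σ y * x * (σ y)⁻¹) * y by group,
        act_eq h.s3 W (fun a ha b hb => ha.2.2 b hb.1) (fun a ha => ha.2.1) (hWφ σ hUs) hfixW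
          hp hp2 hp3 R hR hRs hy hx]
      group
    have hWne : W ≠ ⊥ := by
      haveI : Nontrivial U := (Subgroup.nontrivial_iff_ne_bot U).2 hUne
      haveI := hU2.center_nontrivial
      obtain ⟨k, hk0, hk⟩ := (hU2.to_subgroup (Subgroup.center U)).nontrivial_iff_card.1 inferInstance
      obtain ⟨z, hz⟩ := exists_prime_orderOf_dvd_card' 2
        (hk ▸ dvd_pow_self 2 (by omega) : 2 ∣ Nat.card (Subgroup.center U))
      intro e
      have hzW : ((z : U) : G) ∈ W := ⟨z.1.2, by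
        rw [← hz, ← Subgroup.orderOf_coe, ← Subgroup.orderOf_coe, pow_orderOf_eq_one],
        fun v hv => congrArg Subtype.val (Subgroup.mem_center_iff.1 z.2 ⟨v, hv⟩).symm⟩
      rw [e, mem_bot] at hzW
      rw [← Subgroup.orderOf_coe, ← Subgroup.orderOf_coe, hzW, orderOf_one] at hz
      norm_num at hz
    obtain ⟨σ', τ', h', hσ', hτ'⟩ := h.quotient (N := W) ⟨hWφ σ hUs, hWφ τ hUt⟩
    have hlt : Nat.card (G ⧸ W) < n := by
      rw [← hn, Subgroup.card_eq_card_quotient_mul_card_subgroup W]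
      exact lt_mul_of_one_lt_right Nat.card_pos (one_lt_card_iff_ne_bot W |>.2 hWne)
    have hq := ih _ hlt (G ⧸ W) σ' τ' rfl h' (U.map (QuotientGroup.mk' W))
      (hUn.map _ (QuotientGroup.mk'_surjective W))
      (by rintro _ ⟨x, hx, rfl⟩; exact ⟨σ x, hUs x hx, (hσ' x).symm⟩)
      (by rintro _ ⟨x, hx, rfl⟩; exact ⟨τ x, hUt x hx, (hτ' x).symm⟩)
      (hU2.map _) p hp hp2 hp3 (R.map (QuotientGroup.mk' W)) (hR.map _)
      (by rintro _ ⟨x, hx, rfl⟩; exact ⟨σ x, hRs x hx, (hσ' x).symm⟩)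
      _ (mem_map_of_mem (QuotientGroup.mk' W) hy) _ (mem_map_of_mem (QuotientGroup.mk' W) hu)
    set y0 := y⁻¹ * σ y with hy0
    have hcW : y0 * u * y0⁻¹ * u⁻¹ ∈ W := by
      rw [← QuotientGroup.eq_one_iff]
      have e : QuotientGroup.mk' W y0 = (QuotientGroup.mk' W y)⁻¹ * σ' (QuotientGroup.mk' W y) := by
        rw [hy0, map_mul, map_inv]; congr 1; exact (hσ' y).symm
      change QuotientGroup.mk' W (y0 * u * y0⁻¹ * u⁻¹) = 1
      rw [map_mul, map_mul, map_mul, map_inv, map_inv, e, hq]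
      group
    haveI : Fact p.Prime := ⟨hp⟩
    have hyR : y0 ∈ R := mul_mem (inv_mem hy) (hRs y hy)
    obtain ⟨k, hk⟩ := IsPGroup.iff_orderOf.1 hR ⟨y0, hyR⟩
    have hco : (orderOf y0).Coprime 2 := by
      rw [← Subgroup.orderOf_mk y0 hyR, hk]
      exact Nat.Coprime.pow_left k ((Nat.coprime_primes hp Nat.prime_two).2 hp2)
    have h5 := FourFree.Class2.eq_one_of_comm_fixed (k := 1) hco (h0 _ hcW)
      (by rw [pow_one]; exact hcW.2.1)
    exact mul_inv_eq_iff_eq_mul.1 h5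

/-- In a solvable group with trivial odd core, `σ` is trivial modulo `O₂`. -/
theorem mem_pCore {G : Type u} [Group G] [Finite G] {σ τ : MulAut G} (h : Ops G σ τ)
    [Group.IsSolvable G] (hO : pPrimeCore 2 G = ⊥) (g : G) : g⁻¹ * σ g ∈ pCore 2 G := by
  haveI : Fact (Nat.Prime 2) := ⟨Nat.prime_two⟩
  set Q := pCore 2 G with hQ
  have hQi : Inv σ τ Q := inv_of_characteristic σ τ inferInstance
  have hCQ : centralizer (Q : Set G) ≤ Q :=
    PSolvable.centralizer_pCore_le (PSolvable.isPSolvable_of_isSolvable (p := 2)) hO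
  obtain ⟨σ', τ', h', hσ', -⟩ := h.quotient (N := Q) hQi
  set F := fittingSubgroup (G ⧸ Q) with hF
  have hFfix : F ≤ MonoidHom.eqLocus σ'.toMonoidHom (MonoidHom.id (G ⧸ Q)) := by
    rw [hF, Cores.fittingSubgroup_eq_iSup_pCore]
    refine iSup_le fun p => ?_
    intro m hm
    have hp : Nat.Prime (p : ℕ) := p.2
    haveI : Fact (Nat.Prime (p : ℕ)) := ⟨hp⟩
    change σ' m = m
    rcases eq_or_ne (p : ℕ) 2 with h2 | h2
    · rw [h2, Cores.pCore_quotient_pCore, mem_bot] at hm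
      rw [hm, map_one]
    rcases eq_or_ne (p : ℕ) 3 with h3 | h3
    · rw [h3] at hm
      obtain ⟨k, hk⟩ := IsPGroup.iff_orderOf.1 (Cores.pCore_isPGroup 3) ⟨m, hm⟩
      rw [Subgroup.orderOf_mk] at hk
      have hk0 : k = 0 := by
        by_contra hk0
        exact h'.h3 ((dvd_pow_self 3 hk0).trans (hk ▸ orderOf_dvd_natCard m))
      rw [hk0, pow_zero, orderOf_eq_one_iff] at hk
      rw [hk, map_one]
    set π := QuotientGroup.mk' Q with hπ
    set L := (pCore (p : ℕ) (G ⧸ Q)).comap π with hL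
    have hLi : Inv σ τ L := by
      have hc : (pCore (p : ℕ) (G ⧸ Q)).Characteristic := inferInstance
      refine ⟨fun x hx => ?_, fun x hx => ?_⟩
      · rw [hL, mem_comap] at hx ⊢
        rw [show π (σ x) = σ' (π x) from (hσ' x).symm]
        exact (inv_of_characteristic σ' τ' hc).1 _ hx
      · rw [hL, mem_comap] at hx ⊢
        obtain ⟨σ'', τ'', -, -, ht''⟩ := h.quotient (N := Q) hQi
        rw [show π (τ x) = τ'' (π x) from (ht'' x).symm]
        exact (inv_of_characteristic σ'' τ'' hc).2 _ hx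
    obtain ⟨σL, τL, hLo, hσL, -⟩ := h.restrict hLi
    letI : MulDistribMulAction (Subgroup.zpowers σL) L :=
      MulDistribMulAction.compHom _ (Subgroup.zpowers σL).subtype
    have hcop : (Nat.card (Subgroup.zpowers σL)).Coprime (Nat.card L) := by
      rw [Nat.card_zpowers]
      refine Nat.Coprime.coprime_dvd_left (orderOf_dvd_of_pow_eq_one (n := 3) ?_)
        (Nat.prime_three.coprime_iff_not_dvd.2 hLo.h3)
      refine MulEquiv.ext fun x => ?_
      simp only [pow_succ, pow_zero, one_mul, MulAut.mul_apply, MulAut.one_apply]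
      exact hLo.s3 x
    obtain ⟨P, hP⟩ := Coprime.Action.exists_invariant_sylow (A := Subgroup.zpowers σL) (G := L) hcop
      (Or.inl inferInstance) (p : ℕ)
    set R := (P : Subgroup L).map L.subtype with hR
    have hRs : ∀ r ∈ R, σ r ∈ R := by
      rintro _ ⟨x, hx, rfl⟩
      exact ⟨_, hP ⟨σL, mem_zpowers σL⟩ x hx, hσL x⟩
    -- `m` is the image of an element of `R`
    let f : L →* ↥(pCore (p : ℕ) (G ⧸ Q)) := π.subgroupComap _
    have hfs : Function.Surjective f :=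
      MonoidHom.subgroupComap_surjective_of_surjective π _ (QuotientGroup.mk'_surjective Q)
    have htop : ((P.mapSurjective hfs : Sylow (p : ℕ) _) : Subgroup ↥(pCore (p : ℕ) (G ⧸ Q))) = ⊤ :=
      ((P.mapSurjective hfs).3 (Q := ⊤)
        ((Cores.pCore_isPGroup (G := G ⧸ Q) (p : ℕ)).of_equiv Subgroup.topEquiv.symm) le_top).symm
    rw [Sylow.coe_mapSurjective] at htop
    obtain ⟨x, hx, hxm⟩ := htop.ge (mem_top (⟨m, hm⟩ : ↥(pCore (p : ℕ) (G ⧸ Q))))
    have hy : (x : G) ∈ R := mem_map_of_mem _ hx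
    have hym : π (x : G) = m := congrArg Subtype.val hxm
    have hcen : (x : G)⁻¹ * σ x ∈ centralizer (Q : Set G) := mem_centralizer_iff.2 fun u hu =>
      (centralizes _ G σ τ rfl h Q inferInstance hQi.1 hQi.2 (Cores.pCore_isPGroup 2) (p : ℕ) hp h2 h3 R
        (P.2.map _) hRs x hy u hu).symm
    have h1 : (x : G)⁻¹ * σ x = 1 := by
      have hd := IsPGroup.disjoint_of_ne (p₁ := (p : ℕ)) (p₂ := 2) h2 R Q (P.2.map _)
        (Cores.pCore_isPGroup 2)
      exact (Subgroup.disjoint_def.1 hd) (mul_mem (inv_mem hy) (hRs _ hy)) (hCQ hcen)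
    rw [← hym]
    exact (hσ' x).trans (congrArg π (inv_mul_eq_one.1 h1).symm)
  haveI : Group.IsSolvable (G ⧸ Q) := inferInstance
  have hCF : centralizer (F : Set (G ⧸ Q)) ≤ F := Cores.centralizer_fittingSubgroup_le
  suffices hall : ∀ m : G ⧸ Q, σ' m = m by
    rw [← QuotientGroup.eq, ← hσ' g, hall]
  intro m
  have hmC : m⁻¹ * σ' m ∈ centralizer (F : Set (G ⧸ Q)) := by
    rw [mem_centralizer_iff]
    intro r hr
    have h1 : σ' (m * r * m⁻¹) = m * r * m⁻¹ :=
      hFfix ((inferInstance : F.Normal).conj_mem r hr m)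
    rw [map_mul, map_mul, map_inv, show σ' r = r from hFfix hr] at h1
    calc r * (m⁻¹ * σ' m) = m⁻¹ * (m * r * m⁻¹) * σ' m := by group
      _ = m⁻¹ * (σ' m * r * (σ' m)⁻¹) * σ' m := by rw [h1]
      _ = m⁻¹ * σ' m * r := by group
  obtain ⟨k, hk, hfix⟩ := h'.exists_fix
    (inv_of_characteristic σ' σ' (inferInstance : F.Characteristic)).1 (hCF hmC)
  rw [map_mul, show σ' k = k from hFfix hk] at hfix
  exact mul_right_cancel hfix

/-- The conclusions for solvable groups. -/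
theorem main {G : Type u} [Group G] [Finite G] {σ τ : MulAut G} (h : Ops G σ τ)
    [Group.IsSolvable G] :
    (∀ g : G, g⁻¹ * σ g ∈ pPrimePCore 2 G) ∧
      (∀ g : G, ∃ n ∈ pPrimePCore 2 G, σ (g * n) = g * n) ∧ ¬ 2 ∣ (pPrimePCore 2 G).index := by
  haveI : Fact (Nat.Prime 2) := ⟨Nat.prime_two⟩
  have hOi : Inv σ τ (pPrimeCore 2 G) := inv_of_characteristic σ τ inferInstance
  obtain ⟨σ', τ', h', hσ', -⟩ := h.quotient (N := pPrimeCore 2 G) hOi
  have hcore := Cores.pPrimeCore_quotient_pPrimeCore (G := G) 2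
  have hK : ∀ g : G, g⁻¹ * σ g ∈ pPrimePCore 2 G := by
    intro g
    have h1 := mem_pCore h' hcore (g : G ⧸ pPrimeCore 2 G)
    rw [hσ'] at h1
    rw [pPrimePCore, mem_comap]
    exact h1
  have hKs : ∀ x ∈ pPrimePCore 2 G, σ x ∈ pPrimePCore 2 G := fun x hx => by
    have := mul_mem hx (hK x)
    rwa [mul_inv_cancel_left] at this
  have hfix : ∀ g : G, ∃ n ∈ pPrimePCore 2 G, σ (g * n) = g * n :=
    fun g => h.exists_fix hKs (hK g)
  refine ⟨hK, hfix, fun hd => ?_⟩
  rw [Subgroup.index_eq_card] at hd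
  obtain ⟨q, hq⟩ := exists_prime_orderOf_dvd_card' 2 hd
  obtain ⟨g, rfl⟩ := QuotientGroup.mk'_surjective (pPrimePCore 2 G) q
  obtain ⟨n, hn, hf⟩ := hfix g
  have he : QuotientGroup.mk' (pPrimePCore 2 G) g = QuotientGroup.mk' (pPrimePCore 2 G) (g * n) := by
    rw [map_mul, show QuotientGroup.mk' (pPrimePCore 2 G) n = 1 from
      (QuotientGroup.eq_one_iff n).2 hn, mul_one]
  rw [he] at hq
  exact (Nat.not_even_iff_odd.2 (h.fix_odd hf))
    (even_iff_two_dvd.2 (hq ▸ orderOf_map_dvd (QuotientGroup.mk' (pPrimePCore 2 G)) (g * n)))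

end Cfsg.Agent.Lib.FpfSThree23.Structure
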