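/-
With a fixed-point-free `S₃` on a group of order prime to `3`, the normaliser of an invariant
Sylow 2-subgroup `S` controls fusion in `S`, provided `N(J_e(S))` is solvable.
-/
import Cfsg.Agent.Lib.FpfSThree23.Structure
import Cfsg.Agent.Lib.ConjFunctor.Reduce
import Cfsg.Agent.Lib.Kreknin.Assoc
import Cfsg.Agent.Lib.PLocal.Thompson

set_option autoImplicit false
set_option linter.style.haveILetI false

open Subgroup Cfsg
open scoped Pointwise

namespace Cfsg.Agent.Lib.FpfSThree23.Fusion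

open Base

universe u

theorem thompsonSubgroupOf_top {X : Type u} [Group X] :
    thompsonSubgroupOf 2 (⊤ : Subgroup X) = thompsonSubgroup 2 X := by
  rw [PGroups.thompsonSubgroupOf_eq, Cfsg.thompsonSubgroup]
  congr 1
  ext A
  exact ⟨fun h => ⟨h.2.1, fun B hB => h.2.2 B le_top hB⟩,
    fun h => ⟨le_top, h.1, fun B _ hB => h.2 B hB⟩⟩

theorem thompson_isCharP :
    IsCharPFunctor.{u} 2 (fun (Q : Type u) [Group Q] => thompsonSubgroup 2 Q) := by
  haveI : Fact (Nat.Prime 2) := ⟨Nat.prime_two⟩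
  refine ⟨fun Q _ _ hQ hne => ?_, fun Q R _ _ _ _ φ => ?_⟩
  · obtain ⟨k, hk0, hk⟩ := hQ.nontrivial_iff_card.1 hne
    exact PLocal.thompsonSubgroup_ne_bot (hk ▸ dvd_pow_self 2 (by omega))
  · change (thompsonSubgroup 2 Q).map φ.toMonoidHom = thompsonSubgroup 2 R
    rw [← thompsonSubgroupOf_top, ← thompsonSubgroupOf_top,
      PGroups.map_thompsonSubgroupOf _ φ.injective, Subgroup.map_top_of_surjective _ φ.surjective]

theorem lcs_mono {G : Type u} [Group G] {H K : Subgroup G} (h : H ≤ K) :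
    ∀ n, H.lowerCentralSeries n ≤ K.lowerCentralSeries n
  | 0 => h
  | n + 1 => by
    rw [Subgroup.lowerCentralSeries_succ, Subgroup.lowerCentralSeries_succ]
    exact Subgroup.commutator_mono (lcs_mono h n) h

variable {G : Type u} [Group G] [Finite G] {σ τ : MulAut G}

/-- An invariant Sylow 2-subgroup has class at most two. -/
theorem class_two (h : Ops G σ τ) (S : Sylow 2 G) (hS : ∀ x ∈ (S : Subgroup G), σ x ∈ (S : Subgroup G)) :
    (S : Subgroup G).lowerCentralSeries 2 = ⊥ := by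
  haveI : Fact (Nat.Prime 3) := ⟨Nat.prime_three⟩
  haveI : Fact (Nat.Prime 2) := ⟨Nat.prime_two⟩
  let α : MulAut (S : Subgroup G) :=
    (σ.subgroupMap (S : Subgroup G)).trans (MulEquiv.subgroupCongr (map_eq_of_maps σ hS))
  have hα : ∀ x : (S : Subgroup G), (α x : G) = σ x := fun _ => rfl
  haveI : Group.IsNilpotent (S : Subgroup G) := S.2.isNilpotent
  have h3 : α ^ 3 = 1 := by
    refine MulEquiv.ext fun x => Subtype.ext ?_
    simp only [pow_succ, pow_zero, one_mul, MulAut.mul_apply, MulAut.one_apply, hα]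
    exact h.s3 x
  have hfpf : ∀ x : (S : Subgroup G), α x = x → x = 1 := by
    intro x hx
    have hodd := h.fix_odd ((hα x).symm.trans (congrArg Subtype.val hx))
    obtain ⟨k, hk⟩ := IsPGroup.iff_orderOf.1 S.2 x
    rw [← Subgroup.orderOf_coe] at hk
    rcases Nat.eq_zero_or_pos k with rfl | hk0
    · exact Subtype.ext (orderOf_eq_one_iff.1 (hk.trans (pow_zero 2)))
    · exact absurd (hk ▸ (Nat.even_pow.2 ⟨even_two, by omega⟩ : Even (2 ^ k)))
        (Nat.not_even_iff_odd.2 hodd)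
  have h2 : Kreknin.gam (S : Subgroup G) 2 = ⊥ :=
    (Kreknin.lcs_eq_bot (p := 3) α h3 hfpf).2 rfl
  have h4 := congrArg (Subgroup.map (S : Subgroup G).subtype) h2
  rw [Kreknin.gam, Subgroup.map_lowerCentralSeries, ← MonoidHom.range_eq_map,
    Subgroup.range_subtype, Subgroup.map_bot] at h4
  exact h4

/-- Fusion in `S` is controlled by the normaliser of `S`. -/
theorem exists_normalizer (h : Ops G σ τ) (S : Sylow 2 G)
    (hS : Inv σ τ (S : Subgroup G))
    (hN : Group.IsSolvable ↥(normalizer (thompsonSubgroupOf 2 (S : Subgroup G) : Set G)))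
    {A : Set G} {g : G} (hA : A ⊆ (S : Subgroup G)) (hgA : ∀ a ∈ A, g * a * g⁻¹ ∈ (S : Subgroup G)) :
    ∃ m ∈ normalizer ((S : Subgroup G) : Set G), ∀ a ∈ A, m * a * m⁻¹ = g * a * g⁻¹ := by
  classical
  haveI : Fact (Nat.Prime 2) := ⟨Nat.prime_two⟩
  let W : ∀ (Q : Type u) [Group Q], Subgroup Q := fun Q _ => thompsonSubgroup 2 Q
  let 𝓦 : Set (∀ (Q : Type u) [Group Q], Subgroup Q) := {W}
  have hW : ∀ W' ∈ 𝓦, IsCharPFunctor.{u} 2 W' := fun W' hW' => by
    rw [Set.mem_singleton_iff] at hW'; subst hW'; exact thompson_isCharP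
  have hS4 : ∀ (K : Subgroup G) (R : Subgroup G) [(R.subgroupOf K).Normal],
      ¬ Nonempty (↥K ⧸ R.subgroupOf K ≃* Equiv.Perm (Fin 4)) := by
    intro K R _ ⟨e⟩
    apply h.h3
    have h1 : Nat.card (↥K ⧸ R.subgroupOf K) = 24 := by
      rw [Nat.card_congr e.toEquiv, Nat.card_perm, Nat.card_fin]; rfl
    exact ((show (3 : ℕ) ∣ 24 by norm_num).trans (h1 ▸ card_quotient_dvd_card _)).trans
      (card_subgroup_dvd_card K)
  have hSF : ConjFunctor.Section.SF 𝓦 2 G := by
    refine ConjFunctor.Reduce.sf_main hW (fun X _ _ hX hcon => ?_) G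
      (ConjFunctor.Section.IsSection.refl G)
    intro T A' x _ hA' hxA'
    have hS4X : ¬ Cfsg.Involves (Equiv.Perm (Fin 4)) X := by
      rintro ⟨K', R', hn', ⟨e⟩⟩
      obtain ⟨K, R, hn, ⟨e'⟩⟩ := ((hX.subgroup K').quotient (QuotientGroup.mk' (R'.subgroupOf K'))
        (QuotientGroup.mk'_surjective _)).exists_iso
      exact hS4 K R ⟨e'.trans e⟩
    have hclX : (T : Subgroup X).lowerCentralSeries 2 = ⊥ := by
      obtain ⟨K, f, hf⟩ := hX
      obtain ⟨P⟩ : Nonempty (Sylow 2 K) := inferInstance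
      obtain ⟨T', hT'⟩ := (P.2.map K.subtype).exists_le_sylow
      obtain ⟨c, hc⟩ := MulAction.exists_smul_eq G S T'
      have hP : (P : Subgroup K).lowerCentralSeries 2 = ⊥ := by
        refine (Subgroup.map_eq_bot_iff_of_injective _ K.subtype_injective).1 ?_
        rw [Subgroup.map_lowerCentralSeries, eq_bot_iff]
        refine (lcs_mono hT' 2).trans ?_
        rw [← hc, Sylow.coe_subgroup_smul,
          show MulAut.conj c • (S : Subgroup G) = (S : Subgroup G).map (MulAut.conj c).toMonoidHom from rfl,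
          ← Subgroup.map_lowerCentralSeries, class_two h S hS.1, Subgroup.map_bot]
      obtain ⟨x', hx'⟩ := MulAction.exists_smul_eq X (P.mapSurjective hf) T
      rw [← hx', Sylow.coe_subgroup_smul, Sylow.coe_mapSurjective,
        show ∀ H : Subgroup X, MulAut.conj x' • H = H.map (MulAut.conj x').toMonoidHom from fun _ => rfl,
        Subgroup.map_map, ← Subgroup.map_lowerCentralSeries, hP, Subgroup.map_bot]
    have htop := FourFree.Class2.normalizer_thompson_eq_top hS4X T hclX hcon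
    refine .single ⟨mem_top x, _, ⟨_, ⟨W, rfl, rfl⟩, rfl⟩, ?_⟩ hA' hxA'
    change x ∈ normalizer ((thompsonSubgroupOf 2 (T : Subgroup X) : Subgroup X) : Set X)
    rw [htop]; exact mem_top x
  set N := normalizer (thompsonSubgroupOf 2 (S : Subgroup G) : Set G) with hNdef
  obtain ⟨n, hnN, hn⟩ := (hSF S A g (mem_top g) hA (by rintro _ ⟨a, ha, rfl⟩; exact hgA a ha)).collapse
    (N := N) (by
      rintro x ⟨-, F, ⟨W', ⟨W'', hW'', rfl⟩, rfl⟩, hx⟩
      rw [Set.mem_singleton_iff] at hW''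
      subst hW''
      exact hx)
  -- inside `N`
  have hSN : (S : Subgroup G) ≤ N :=
    le_trans Subgroup.le_normalizer (PGroups.normalizer_le_normalizer_thompson _)
  have hJ : Inv σ τ (thompsonSubgroupOf 2 (S : Subgroup G)) := by
    refine ⟨fun x hx => ?_, fun x hx => ?_⟩
    · have := mem_map_of_mem σ.toMonoidHom hx
      rwa [PGroups.map_thompsonSubgroupOf _ σ.injective, map_eq_of_maps σ hS.1] at this
    · have := mem_map_of_mem τ.toMonoidHom hx
      rwa [PGroups.map_thompsonSubgroupOf _ τ.injective, map_eq_of_maps τ hS.2] at this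
  obtain ⟨σ', τ', h', hσ', -⟩ := h.restrict hJ.normalizer
  haveI : Group.IsSolvable ↥N := hN
  obtain ⟨-, -, hidx⟩ := Structure.main (G := ↥N) h'
  set O := pPrimeCore 2 ↥N with hO
  set K := pPrimePCore 2 ↥N with hK
  let SN : Sylow 2 ↥N := S.subtype hSN
  have hSK : (SN : Subgroup ↥N) ≤ K := by
    intro s hs
    rw [← QuotientGroup.eq_one_iff, ← orderOf_eq_one_iff]
    obtain ⟨k, hk⟩ := IsPGroup.iff_orderOf.1 (SN.2.map (QuotientGroup.mk' K))
      ⟨QuotientGroup.mk' K s, mem_map_of_mem _ hs⟩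
    rw [Subgroup.orderOf_mk] at hk
    rw [show ((s : ↥N) : ↥N ⧸ K) = QuotientGroup.mk' K s from rfl, hk]
    rcases Nat.eq_zero_or_pos k with rfl | hk0
    · rfl
    · exfalso
      rw [Subgroup.index_eq_card] at hidx
      exact hidx ((hk ▸ dvd_pow_self 2 hk0.ne' : 2 ∣ orderOf (QuotientGroup.mk' K s)).trans (_root_.orderOf_dvd_natCard _))
  have hKS : K ≤ (SN : Subgroup ↥N) ⊔ O := by
    have h1 : K.map (QuotientGroup.mk' O) ≤ (SN : Subgroup ↥N).map (QuotientGroup.mk' O) := by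
      rw [hK, PSolvable.map_pPrimePCore, ← Sylow.coe_mapSurjective (QuotientGroup.mk'_surjective O)]
      exact Cores.pCore_le_sylow _
    have h2 := Subgroup.map_le_iff_le_comap.1 h1
    rwa [Subgroup.comap_map_eq, QuotientGroup.ker_mk'] at h2
  have htop : normalizer ((SN : Subgroup ↥N) : Set ↥N) ⊔ O = ⊤ := by
    rw [eq_top_iff, ← Sylow.normalizer_sup_eq_top (N := K) (SN.subtype hSK)]
    refine sup_le ?_ (hKS.trans (sup_le_sup_right Subgroup.le_normalizer O))
    rw [Sylow.coe_subtype, Subgroup.map_subgroupOf_eq_of_le hSK]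
    exact le_sup_left
  obtain ⟨m, hm, o, ho, hmo⟩ : ∃ m ∈ normalizer ((SN : Subgroup ↥N) : Set ↥N), ∃ o ∈ O,
      o * m = ⟨n, hnN⟩ := by
    have h1 : (⟨n, hnN⟩ : ↥N) ∈ normalizer ((SN : Subgroup ↥N) : Set ↥N) ⊔ O := htop ▸ mem_top _
    rw [sup_comm, ← SetLike.mem_coe, Subgroup.normal_mul, Set.mem_mul] at h1
    obtain ⟨o, ho, m, hm, e⟩ := h1
    exact ⟨m, hm, o, ho, e⟩
  refine ⟨(m : G), ?_, fun a ha => ?_⟩
  · rw [mem_normalizer_iff]
    intro s
    refine ⟨fun hs => ?_, fun hs => ?_⟩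
    · exact (mem_normalizer_iff.1 hm ⟨s, hSN hs⟩).1 hs
    · have hsN : s ∈ N := by
        have := mul_mem (mul_mem (inv_mem m.2) (hSN hs)) m.2
        simpa [mul_assoc] using this
      exact (mem_normalizer_iff.1 hm ⟨s, hsN⟩).2 hs
  · have haS : (⟨a, hSN (hA ha)⟩ : ↥N) ∈ (SN : Subgroup ↥N) := hA ha
    set x := m * ⟨a, hSN (hA ha)⟩ * m⁻¹ with hx
    have hxS : x ∈ (SN : Subgroup ↥N) := (mem_normalizer_iff.1 hm _).1 haS
    have hyS : o * x * o⁻¹ ∈ (SN : Subgroup ↥N) := by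
      have e : o * x * o⁻¹ = ⟨n, hnN⟩ * ⟨a, hSN (hA ha)⟩ * ⟨n, hnN⟩⁻¹ := by rw [← hmo, hx]; group
      rw [e]
      change n * a * n⁻¹ ∈ (S : Subgroup G)
      rw [hn a ha]; exact hgA a ha
    have hc : o * x * o⁻¹ * x⁻¹ = 1 := by
      have h1 : o * x * o⁻¹ * x⁻¹ ∈ O := by
        rw [show o * x * o⁻¹ * x⁻¹ = o * (x * o⁻¹ * x⁻¹) by group]
        exact mul_mem ho ((inferInstance : O.Normal).conj_mem _ (inv_mem ho) x)
      exact disjoint_def.1 (Transfer.PResidual.disjoint_of_not_dvd (Cores.not_dvd_card_pPrimeCore 2)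
        SN.2) h1 (mul_mem hyS (inv_mem hxS))
    rw [← hn a ha]
    have e1 : o * x * o⁻¹ = x := mul_inv_eq_one.1 hc
    have e2 : (m : G) * a * (m : G)⁻¹ = ((o * x * o⁻¹ : ↥N) : G) := by rw [e1, hx]; rfl
    rw [e2, show o * x * o⁻¹ = ⟨n, hnN⟩ * ⟨a, hSN (hA ha)⟩ * ⟨n, hnN⟩⁻¹ by rw [← hmo, hx]; group]
    rfl

end Cfsg.Agent.Lib.FpfSThree23.Fusion
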