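/-
A group of order prime to `3` with a fixed-point-free `S₃` and without invariant proper normal
subgroups is solvable, given that the normalisers of `S` and `J_e(S)` are solvable.
-/
import Cfsg.Agent.Lib.FpfSThree23.Dihedral
import Cfsg.Agent.Lib.FpfSThree23.Fusion
import Cfsg.Agent.Lib.ZStar.UniqueCase
import Cfsg.Agent.Lib.Signalizer.Complete
import Cfsg.Agent.Lib.Balance.Basic
import Cfsg.Agent.Lib.OddOrder.FeitThompson
import Cfsg.Agent.Lib.Frobenius.Nilpotent

set_option autoImplicit false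
set_option linter.style.haveILetI false

open Subgroup Cfsg
open scoped Pointwise

namespace Cfsg.Agent.Lib.FpfSThree23.Simple

open Base

universe u

variable {G : Type u} [Group G] [Finite G] {σ τ : MulAut G}

/-- An element conjugating `v` to `w` whose cube fixes `v` and which has order prime to `3` fixes
`v`. -/
theorem conj_eq_of_cube (h3 : ¬ 3 ∣ Nat.card G) {c v : G} (h : c ^ 3 * v * (c ^ 3)⁻¹ = v) :
    c * v * c⁻¹ = v := by
  have hco : (orderOf c).Coprime 3 :=
    (Nat.Prime.coprime_iff_not_dvd Nat.prime_three).2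
      (fun hd => h3 (hd.trans (_root_.orderOf_dvd_natCard c))) |>.symm
  obtain ⟨j, hj⟩ := exists_pow_eq_self_of_coprime hco.symm
  have hc : Commute (c ^ 3) v := mul_inv_eq_iff_eq_mul.1 h
  have := hc.pow_left j
  rw [hj] at this
  exact mul_inv_eq_iff_eq_mul.2 this

/-- Centraliser decomposition and balance for a central strongly closed subgroup whose members are
isolated in each other's centralisers. -/
theorem decomp (S : Sylow 2 G) (A : Subgroup G) (hA : Dihedral.CenClosed S A)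
    {v : G} (hv : v ∈ A)
    (hiso : ∀ a ∈ A, ∀ h : G, h * v = v * h → h * a * h⁻¹ ∈ (S : Subgroup G) → h * a * h⁻¹ = a)
    (hA2 : ∀ a ∈ A, a ^ 2 = 1) {g : G} (hg : g ∈ centralizer ({v} : Set G)) :
    ∃ o ∈ centralizerPPrimeCore 2 v, ∃ n ∈ centralizer (A : Set G), g = o * n := by
  haveI : Fact (Nat.Prime 2) := ⟨Nat.prime_two⟩
  set H := centralizer ({v} : Set G) with hH
  have hSH : (S : Subgroup G) ≤ H := fun s hs => Dihedral.mem_cen.2 (hA.central v hv s hs).symm
  have hAH : A ≤ H := hA.le.trans hSH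
  set M := pPrimeCore 2 ↥H with hM
  set B := A.subgroupOf H with hB
  have hcen : ∀ a ∈ B, ∀ h : ↥H, a * h * a⁻¹ * h⁻¹ ∈ M := by
    intro a ha h
    have ha' := mem_subgroupOf.1 ha
    rcases eq_or_ne a 1 with rfl | ha1
    · simp
    have ha2 : orderOf a = 2 := orderOf_eq_prime (Subtype.ext (by simpa using hA2 _ ha')) ha1
    obtain ⟨N, hN, hodd, hmem⟩ := ZStar.UniqueCase.zstar (S.subtype hSH) a ha2
      (show a ∈ ((S.subtype hSH : Sylow 2 ↥H) : Subgroup ↥H) from hA.le ha') (by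
        intro k hk
        exact Subtype.ext (hiso _ ha' k (Dihedral.mem_cen.1 k.2) hk))
    haveI := hN
    exact Cores.le_pPrimeCore (p := 2) (Nat.coprime_two_right.2 hodd) (hmem h)
  have hLn : (M ⊔ B).Normal := by
    refine ⟨fun x hx k => ?_⟩
    have hle : M ⊔ B ≤ (M ⊔ B).comap (MulAut.conj k).toMonoidHom := by
      refine sup_le (fun m hm => mem_sup_left ((inferInstance : M.Normal).conj_mem m hm k))
        fun a ha => ?_
      have h1 : k * a * k⁻¹ * a⁻¹ ∈ M := by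
        have := inv_mem (hcen a ha k)
        simpa [mul_assoc] using this
      rw [mem_comap]
      have e : (MulAut.conj k).toMonoidHom a = (k * a * k⁻¹ * a⁻¹) * a := by simp
      rw [e]
      exact mul_mem_sup h1 ha
    exact hle hx
  set L := M ⊔ B with hL
  have hBL : B ≤ L := le_sup_right
  have hB2 : IsPGroup 2 (B.subgroupOf L) :=
    (((S.2.to_le hA.le).comap_subtype (K := H)) : IsPGroup 2 ↥B).comap_subtype
  obtain ⟨P, hP⟩ := hB2.exists_le_sylow
  have hPB : (P : Subgroup ↥L) = B.subgroupOf L := by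
    refine (Subgroup.eq_of_le_of_card_ge hP (Nat.le_of_dvd Nat.card_pos ?_)).symm
    have h1 : Nat.card ↥L ∣ Nat.card M * Nat.card B := by
      rw [hL, sup_comm, mul_comm]
      exact Cores.card_sup_dvd_mul B M
    have h2 : (Nat.card (P : Subgroup ↥L)).Coprime (Nat.card M) := by
      obtain ⟨k, hk⟩ := IsPGroup.iff_card.1 P.2
      rw [hk]
      exact ((Cores.pPrimeCore_coprime (G := ↥H) 2).symm).pow_left k
    rw [Nat.card_congr (subgroupOfEquivOfLe hBL).toEquiv]
    exact h2.dvd_of_dvd_mul_left ((card_subgroup_dvd_card _).trans h1)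
  haveI := hLn
  have htop : normalizer (B : Set ↥H) ⊔ M = ⊤ := by
    rw [eq_top_iff, ← Sylow.normalizer_sup_eq_top (N := L) P, hPB,
      Subgroup.map_subgroupOf_eq_of_le hBL]
    exact sup_le le_sup_left (sup_le le_sup_right (Subgroup.le_normalizer.trans le_sup_left))
  have h1 : (⟨g, hg⟩ : ↥H) ∈ M ⊔ normalizer (B : Set ↥H) := by
    rw [sup_comm, htop]; exact mem_top _
  rw [← SetLike.mem_coe, Subgroup.normal_mul, Set.mem_mul] at h1
  obtain ⟨o, ho, n, hn, e⟩ := h1
  refine ⟨(o : G), ⟨o, ho, rfl⟩, (n : G), ?_, congrArg Subtype.val e.symm⟩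
  rw [mem_centralizer_iff]
  intro a ha
  have haB : (⟨a, hAH ha⟩ : ↥H) ∈ B := ha
  set a' : ↥H := ⟨a, hAH ha⟩
  have hc1 : n * a' * n⁻¹ * a'⁻¹ ∈ B :=
    mul_mem ((mem_normalizer_iff.1 hn a').1 haB) (inv_mem haB)
  have hc2 : n * a' * n⁻¹ * a'⁻¹ ∈ M := by
    have := inv_mem (hcen a' haB n)
    simpa [mul_assoc] using this
  have h3 := disjoint_def.1 (Transfer.PResidual.disjoint_of_not_dvd
    (Cores.not_dvd_card_pPrimeCore (G := ↥H) 2)
    (((S.2.to_le hA.le).comap_subtype (K := H)) : IsPGroup 2 ↥B)) hc2 hc1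
  have h4 : (n : G) * a = a * (n : G) :=
    congrArg Subtype.val (mul_inv_eq_iff_eq_mul.1 (mul_inv_eq_one.1 h3))
  exact h4.symm

/-- Balance from the decomposition. -/
theorem balanced (A : Subgroup G) {a b : G} (ha : a ∈ A) (hb : b ∈ A)
    (hdec : ∀ g ∈ centralizer ({b} : Set G),
      ∃ o ∈ centralizerPPrimeCore 2 b, ∃ n ∈ centralizer (A : Set G), g = o * n) :
    centralizerPPrimeCore 2 a ⊓ centralizer ({b} : Set G) ≤ centralizerPPrimeCore 2 b := by
  haveI : Fact (Nat.Prime 2) := ⟨Nat.prime_two⟩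
  set X := centralizerPPrimeCore 2 a ⊓ centralizer ({b} : Set G) with hX
  set H := centralizer ({b} : Set G) with hH
  set M := pPrimeCore 2 ↥H with hM
  set Xs := X.subgroupOf H with hXs
  have hn : (M ⊔ Xs).Normal := by
    refine ⟨fun x hx k => ?_⟩
    obtain ⟨o, ho, n, hn', e⟩ := hdec (k : G) k.2
    obtain ⟨o', ho', rfl⟩ := ho
    have hnb : ∀ c ∈ A, n * c = c * n := fun c hc => (mem_centralizer_iff.1 hn' c hc).symm
    have hnH : n ∈ H := Dihedral.mem_cen.2 (hnb b hb)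
    have hnA : n ∈ centralizer ({a} : Set G) := Dihedral.mem_cen.2 (hnb a ha)
    have hk : k = o' * ⟨n, hnH⟩ := Subtype.ext e
    have hnX : ∀ y ∈ X, n * y * n⁻¹ ∈ X := by
      intro y hy
      refine ⟨?_, H.mul_mem (H.mul_mem hnH hy.2) (H.inv_mem hnH)⟩
      exact (mem_normalizer_iff.1
        (Balance.centralizer_le_normalizer_centralizerPPrimeCore a hnA) y).1 hy.1
    have hle : M ⊔ Xs ≤ (M ⊔ Xs).comap (MulAut.conj k).toMonoidHom := by
      refine sup_le (fun m hm => mem_sup_left ((inferInstance : M.Normal).conj_mem m hm k))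
        fun y hy => ?_
      rw [mem_comap]
      have e2 : (MulAut.conj k).toMonoidHom y = o' * (⟨n, hnH⟩ * y * ⟨n, hnH⟩⁻¹) * o'⁻¹ := by
        subst hk; simp [mul_assoc]
      rw [e2]
      refine mul_mem (mul_mem (mem_sup_left ho') (mem_sup_right ?_)) (mem_sup_left (inv_mem ho'))
      exact hnX _ hy
    exact hle hx
  have hcop : (Nat.card ↥(M ⊔ Xs)).Coprime 2 := by
    have h1 : Nat.card ↥(M ⊔ Xs) ∣ Nat.card Xs * Nat.card M := by
      rw [sup_comm]; exact Cores.card_sup_dvd_mul Xs M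
    refine Nat.Coprime.coprime_dvd_left h1 (Nat.Coprime.mul_left ?_ (Cores.pPrimeCore_coprime 2))
    rw [Nat.card_congr (subgroupOfEquivOfLe (inf_le_right : X ≤ H)).toEquiv]
    exact Nat.Coprime.coprime_dvd_left (card_dvd_of_le inf_le_left)
      (by rw [Balance.centralizerPPrimeCore_eq]; exact Balance.coreIn_coprime _)
  haveI := hn
  intro x hx
  exact ⟨⟨x, hx.2⟩, (Cores.le_pPrimeCore hcop) (mem_sup_right (show (⟨x, hx.2⟩ : ↥H) ∈ Xs from hx)),
    rfl⟩

/-- The contradiction. -/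
theorem not_solvable_false (hns : ¬ Group.IsSolvable G) (h : Ops G σ τ)
    (hmin : ∀ N : Subgroup G, N.Normal → Inv σ τ N → N = ⊥ ∨ N = ⊤)
    (S : Sylow 2 G) (hS : Inv σ τ (S : Subgroup G))
    (hNJ : Group.IsSolvable ↥(normalizer (thompsonSubgroupOf 2 (S : Subgroup G) : Set G)))
    (hNS : Group.IsSolvable ↥(normalizer ((S : Subgroup G) : Set G))) : False := by
  classical
  haveI : Fact (Nat.Prime 2) := ⟨Nat.prime_two⟩
  have heven : 2 ∣ Nat.card G := by
    by_contra hd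
    exact hns (OddOrder.FeitThompson.isSolvable_of_odd_card
      (Nat.odd_iff.2 (Nat.two_dvd_ne_zero.1 hd)))
  have hnilp : ∀ N : Subgroup G, N.Normal → Group.IsNilpotent N → N = ⊥ := fun N hN hnil => by
    haveI := hN
    refine le_bot_iff.1 ((Cores.le_fittingSubgroup hnil).trans ?_)
    rcases hmin (fittingSubgroup G) inferInstance (inv_of_characteristic σ τ inferInstance) with e | e
    · exact e.le
    · haveI : Group.IsNilpotent G := Cores.fittingSubgroup_eq_top_iff.1 e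
      exact absurd (inferInstance : Group.IsSolvable G) hns
  have hfit : fittingSubgroup G = ⊥ := hnilp _ inferInstance Cores.fittingSubgroup_isNilpotent
  have hodd : ∀ N : Subgroup G, N.Normal → (Nat.card N).Coprime 2 → N = ⊥ := fun N hN hc => by
    haveI := hN
    refine le_bot_iff.1 ((Cores.le_pPrimeCore hc).trans ?_)
    rcases hmin (pPrimeCore 2 G) inferInstance (inv_of_characteristic σ τ inferInstance) with e | e
    · exact e.le
    · exfalso
      have h1 := Cores.not_dvd_card_pPrimeCore (G := G) 2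
      rw [e, Subgroup.card_top] at h1
      exact h1 heven
  -- `Ω₁ Z(S)`
  let Z : Subgroup G :=
    { carrier := {x | x ∈ (S : Subgroup G) ∧ x ^ 2 = 1 ∧ ∀ v ∈ (S : Subgroup G), x * v = v * x}
      one_mem' := ⟨one_mem _, one_pow 2, fun v _ => by rw [one_mul, mul_one]⟩
      mul_mem' := fun {a b} ha hb => ⟨mul_mem ha.1 hb.1, by
        rw [Commute.mul_pow (ha.2.2 b hb.1), ha.2.1, hb.2.1, one_mul],
        fun v hv => by rw [mul_assoc, hb.2.2 v hv, ← mul_assoc, ha.2.2 v hv, mul_assoc]⟩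
      inv_mem' := fun {a} ha => ⟨inv_mem ha.1, by rw [inv_pow, ha.2.1, inv_one],
        fun v hv => (Commute.inv_left (ha.2.2 v hv)).eq⟩ }
  have hZne : Z ≠ ⊥ := by
    haveI : Nontrivial (S : Subgroup G) :=
      (Subgroup.nontrivial_iff_ne_bot _).2 (S.ne_bot_of_dvd_card heven)
    haveI := S.2.center_nontrivial
    obtain ⟨k, hk0, hk⟩ :=
      (S.2.to_subgroup (Subgroup.center (S : Subgroup G))).nontrivial_iff_card.1 inferInstance
    obtain ⟨z, hz⟩ := exists_prime_orderOf_dvd_card' 2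
      (hk ▸ dvd_pow_self 2 (by omega) : 2 ∣ Nat.card (Subgroup.center (S : Subgroup G)))
    intro e
    have hzW : ((z : (S : Subgroup G)) : G) ∈ Z := ⟨z.1.2, by
      have h2 := pow_orderOf_eq_one ((z : (S : Subgroup G)) : G)
      rwa [Subgroup.orderOf_coe, Subgroup.orderOf_coe, hz] at h2,
      fun v hv => congrArg Subtype.val (Subgroup.mem_center_iff.1 z.2 ⟨v, hv⟩).symm⟩
    rw [e, mem_bot] at hzW
    rw [← Subgroup.orderOf_coe, ← Subgroup.orderOf_coe, hzW, orderOf_one] at hz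
    norm_num at hz
  set NS := normalizer ((S : Subgroup G) : Set G) with hNSdef
  -- the action of `N(S)` on `Z` is that of fixed points of `σ`
  have hact : ∀ m ∈ NS, ∃ c ∈ NS, σ c = c ∧ ∀ z ∈ Z, m * z * m⁻¹ = c * z * c⁻¹ := by
    intro m hm
    obtain ⟨σ', τ', h', hσ', -⟩ := h.restrict hS.normalizer
    haveI : Group.IsSolvable ↥NS := hNS
    obtain ⟨-, hfix, hidx⟩ := Structure.main (G := ↥NS) h'
    obtain ⟨n, hn, hc⟩ := hfix ⟨m, hm⟩
    refine ⟨(((⟨m, hm⟩ : ↥NS) * n : ↥NS) : G), ((⟨m, hm⟩ : ↥NS) * n).2, by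
      rw [← hσ', hc], fun z hz => ?_⟩
    -- `n` centralises `Z`
    set O := pPrimeCore 2 ↥NS with hO
    set SN : Sylow 2 ↥NS := S.subtype Subgroup.le_normalizer with hSN
    haveI : (SN : Subgroup ↥NS).Normal := Subgroup.normal_in_normalizer
    have hKS : pPrimePCore 2 ↥NS ≤ (SN : Subgroup ↥NS) ⊔ O := by
      have h1 : (pPrimePCore 2 ↥NS).map (QuotientGroup.mk' O) ≤
          (SN : Subgroup ↥NS).map (QuotientGroup.mk' O) := by
        rw [PSolvable.map_pPrimePCore, ← Sylow.coe_mapSurjective (QuotientGroup.mk'_surjective O)]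
        exact Cores.pCore_le_sylow _
      have h2 := Subgroup.map_le_iff_le_comap.1 h1
      rwa [Subgroup.comap_map_eq, QuotientGroup.ker_mk'] at h2
    have hzS : (⟨z, Subgroup.le_normalizer hz.1⟩ : ↥NS) ∈ (SN : Subgroup ↥NS) := hz.1
    set z' : ↥NS := ⟨z, Subgroup.le_normalizer hz.1⟩
    have hcent : (SN : Subgroup ↥NS) ⊔ O ≤ centralizer ({z'} : Set ↥NS) := by
      refine sup_le (fun s hs => Dihedral.mem_cen.2 (Subtype.ext (hz.2.2 _ hs).symm)) fun o ho => ?_
      exact Dihedral.mem_cen.2 (Subgroup.commute_of_normal_of_disjoint O (SN : Subgroup ↥NS)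
        inferInstance inferInstance
        (Transfer.PResidual.disjoint_of_not_dvd (Cores.not_dvd_card_pPrimeCore 2) SN.2) o z' ho hzS)
    have hnz := congrArg Subtype.val (Dihedral.mem_cen.1 (hcent (hKS hn)))
    simp only [Subgroup.coe_mul, mul_inv_rev] at hnz ⊢
    have : (n : G) * z * (n : G)⁻¹ = z := mul_inv_eq_iff_eq_mul.2 hnz
    calc m * z * m⁻¹ = m * ((n : G) * z * (n : G)⁻¹) * m⁻¹ := by rw [this]
      _ = m * (n : G) * z * ((n : G)⁻¹ * m⁻¹) := by group
  -- the minimal invariant subgroup `A`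
  obtain ⟨A, ⟨hA0, hAZ, hAN, hAσ⟩, hAmin⟩ :=
    wellFounded_lt.has_min
      {A : Subgroup G | A ≠ ⊥ ∧ A ≤ Z ∧ (∀ m ∈ NS, ∀ a ∈ A, m * a * m⁻¹ ∈ A) ∧ ∀ a ∈ A, σ a ∈ A}
      ⟨Z, hZne, le_rfl, fun m hm a ha => by
        refine ⟨(mem_normalizer_iff.1 hm a).1 ha.1, by rw [conj_pow, ha.2.1, mul_one, mul_inv_cancel],
          fun v hv => ?_⟩
        have h1 := ha.2.2 (m⁻¹ * v * m) ((mem_normalizer_iff.1 hm _).2 (by simpa [mul_assoc] using hv))
        calc m * a * m⁻¹ * v = m * (a * (m⁻¹ * v * m)) * m⁻¹ := by group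
          _ = v * (m * a * m⁻¹) := by rw [h1]; group,
        fun a ha => ⟨hS.1 a ha.1, by rw [← map_pow, ha.2.1, map_one], fun v hv => by
          obtain ⟨w, hw, rfl⟩ := (map_eq_of_maps σ hS.1).ge hv
          rw [MulEquiv.coe_toMonoidHom, ← map_mul, ha.2.2 w hw, map_mul]⟩⟩
  have hA2 : ∀ a ∈ A, a ^ 2 = 1 := fun a ha => (hAZ ha).2.1
  have hfus : ∀ {X : Set G} {g : G}, X ⊆ (S : Subgroup G) →
      (∀ x ∈ X, g * x * g⁻¹ ∈ (S : Subgroup G)) →
      ∃ m ∈ NS, ∀ x ∈ X, m * x * m⁻¹ = g * x * g⁻¹ :=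
    fun hX hg => Fusion.exists_normalizer h S hS hNJ hX hg
  have hA : Dihedral.CenClosed S A := by
    refine ⟨fun a ha => (hAZ ha).1, fun a ha => (hAZ ha).2.2, fun a ha g hg => ?_⟩
    obtain ⟨m, hm, e⟩ := hfus (X := {a}) (Set.singleton_subset_iff.2 (hAZ ha).1)
      (by rintro x rfl; exact hg)
    rw [← e a rfl]; exact hAN m hm a ha
  -- `N(S)` acts semiregularly on `A`
  have hsemi : ∀ m ∈ NS, ∀ v ∈ A, v ≠ 1 → m * v * m⁻¹ = v → ∀ a ∈ A, m * a * m⁻¹ = a := by
    intro m hm v hv hv1 hmv a ha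
    obtain ⟨c, hcN, hc, hcz⟩ := hact m hm
    let F : Subgroup G := A ⊓ centralizer ({c} : Set G)
    have hvF : v ∈ F := ⟨hv, Dihedral.mem_cen.2
      (mul_inv_eq_iff_eq_mul.1 ((hcz v (hAZ hv)).symm.trans hmv)).symm⟩
    have hF : F = A := by
      by_contra hne
      refine hAmin F ⟨fun e => hv1 (mem_bot.1 (e ▸ hvF)), inf_le_left.trans hAZ,
        fun m' hm' x hx => ⟨hAN m' hm' x hx.1, ?_⟩, fun x hx => ⟨hAσ x hx.1, ?_⟩⟩
        (lt_of_le_of_ne inf_le_left hne)
      · obtain ⟨c', -, hc', hcz'⟩ := hact m' hm'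
        rw [hcz' x (hAZ hx.1)]
        have e1 : x * c = c * x := Dihedral.mem_cen.1 hx.2
        have e2 : c * c' = c' * c := h.fix_comm hc hc'
        exact Dihedral.mem_cen.2 ((Commute.mul_left (Commute.mul_left e2.symm e1)
          (Commute.inv_left e2.symm)).eq)
      · have := congrArg σ (Dihedral.mem_cen.1 hx.2)
        rw [map_mul, map_mul, hc] at this
        exact Dihedral.mem_cen.2 this
    rw [hcz a (hAZ ha)]
    exact mul_inv_eq_iff_eq_mul.2 (Dihedral.mem_cen.1 (hF.ge ha).2).symm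
  -- `v` and `σ v` are not conjugate
  have hsig : ∀ v ∈ A, v ≠ 1 → ¬ IsConj v (σ v) := by
    intro v hv hv1 hcon
    obtain ⟨g, hg⟩ := isConj_iff.1 hcon
    obtain ⟨m, hm, e⟩ := hfus (X := {v}) (Set.singleton_subset_iff.2 (hAZ hv).1)
      (fun x hx => by rw [Set.mem_singleton_iff.1 hx, hg]; exact hS.1 v (hAZ hv).1)
    obtain ⟨c, -, hc, hcz⟩ := hact m hm
    have h1 : c * v * c⁻¹ = σ v := by rw [← hcz v (hAZ hv), e v rfl, hg]
    have h2 : c * σ v * c⁻¹ = σ (σ v) := by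
      have := congrArg σ h1
      rwa [map_mul, map_mul, map_inv, hc] at this
    have h3 : c * σ (σ v) * c⁻¹ = v := by
      have := congrArg σ h2
      rwa [map_mul, map_mul, map_inv, hc, h.s3] at this
    have h4 : c ^ 3 * v * (c ^ 3)⁻¹ = v := by
      rw [show c ^ 3 * v * (c ^ 3)⁻¹ = c * (c * (c * v * c⁻¹) * c⁻¹) * c⁻¹ by
        simp only [pow_succ, pow_zero, one_mul, mul_inv_rev, mul_assoc], h1, h2, h3]
    exact hv1 (h.fix_sq_one (h1.symm.trans (conj_eq_of_cube h.h3 h4)) (hA2 v hv))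
  -- the size of `A`
  have hbig : 2 ^ 3 ≤ Nat.card A := by
    by_contra hlt
    obtain ⟨v, hv, hv1⟩ := A.ne_bot_iff_exists_ne_one.1 hA0 |> fun ⟨x, hx⟩ =>
      (⟨(x : G), x.2, fun e => hx (Subtype.ext e)⟩ : ∃ v ∈ A, v ≠ 1)
    have hne : ∀ w ∈ A, w ≠ 1 → σ w ≠ w := fun w hw hw1 e => hw1 (h.fix_sq_one e (hA2 w hw))
    have hcard : Nat.card A ≤ 4 := by
      obtain ⟨k, hk⟩ := IsPGroup.iff_card.1 (S.2.to_le hA.le)
      have : 2 ^ k < 2 ^ 3 := hk ▸ not_le.1 hlt
      have hk3 : k < 3 := (Nat.pow_lt_pow_iff_right one_lt_two).1 this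
      rw [hk]; exact Nat.pow_le_pow_right (n := 2) two_pos (by omega : k ≤ 2)
    -- `A` consists of `1` and the orbit of `v`
    have horb : ∀ w ∈ A, w = 1 ∨ w = v ∨ w = σ v ∨ w = σ (σ v) := by
      intro w hw
      by_contra hcon
      push Not at hcon
      let T : Finset A := {1, ⟨v, hv⟩, ⟨σ v, hAσ v hv⟩, ⟨σ (σ v), hAσ _ (hAσ v hv)⟩, ⟨w, hw⟩}
      have h1 : σ v ≠ v := hne v hv hv1
      have h2 : σ (σ v) ≠ σ v := fun e => h1 (σ.injective e)
      have h3 : σ (σ v) ≠ v := fun e => h1 (by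
        conv_rhs => rw [← h.s3 v]
        rw [e])
      have hz1 : ∀ x : G, x ≠ 1 → σ x ≠ 1 := fun x hx e => hx (σ.map_eq_one_iff.1 e)
      have h5 : T.card = 5 := by
        simp only [T]
        rw [Finset.card_insert_of_notMem, Finset.card_insert_of_notMem,
          Finset.card_insert_of_notMem, Finset.card_insert_of_notMem, Finset.card_singleton]
        all_goals simp only [Finset.mem_insert, Finset.mem_singleton, Subtype.ext_iff,
          OneMemClass.coe_one, not_or]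
        · exact Ne.symm hcon.2.2.2
        · exact ⟨Ne.symm h2, Ne.symm hcon.2.2.1⟩
        · exact ⟨Ne.symm h1, Ne.symm h3, Ne.symm hcon.2.1⟩
        · exact ⟨Ne.symm hv1, Ne.symm (hz1 v hv1), Ne.symm (hz1 _ (hz1 v hv1)), Ne.symm hcon.1⟩
      haveI := Fintype.ofFinite A
      have := T.card_le_univ
      rw [← Nat.card_eq_fintype_card] at this
      omega
    have hiso : ∀ g : G, g * v * g⁻¹ ∈ (S : Subgroup G) → g * v * g⁻¹ = v := by
      intro g hg
      rcases horb _ (hA.closed v hv g hg) with e | e | e | e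
      · exact absurd (conj_eq_one_iff.1 e) hv1
      · exact e
      · exact absurd (isConj_iff.2 ⟨g, e⟩) (hsig v hv hv1)
      · exfalso
        refine hsig (σ (σ v)) (hAσ _ (hAσ v hv)) (fun e' => hv1 ?_) ?_
        · rwa [σ.map_eq_one_iff, σ.map_eq_one_iff] at e'
        · rw [h.s3]; exact (isConj_iff.2 ⟨g, e⟩).symm
    obtain ⟨N, hN, hNodd, hmem⟩ := ZStar.UniqueCase.zstar S v
      (orderOf_eq_prime (hA2 v hv) hv1) (hAZ hv).1 hiso
    have hN0 := hodd N hN (Nat.coprime_two_right.2 hNodd)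
    subst hN0
    have hvc : v ∈ Subgroup.center G := Subgroup.mem_center_iff.2 fun g =>
      (mul_inv_eq_iff_eq_mul.1 (mul_inv_eq_one.1 (mem_bot.1 (hmem g)))).symm
    exact hv1 (mem_bot.1 (hfit ▸ Cores.center_le_fittingSubgroup hvc))
  -- centralisers, the signalizer functor
  have hdec : ∀ v ∈ A, v ≠ 1 → ∀ g ∈ centralizer ({v} : Set G),
      ∃ o ∈ centralizerPPrimeCore 2 v, ∃ n ∈ centralizer (A : Set G), g = o * n := by
    intro v hv hv1 g hg
    refine decomp S A hA hv (fun a ha k hk hkS => ?_) hA2 hg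
    have hkv : k * v * k⁻¹ = v := mul_inv_eq_iff_eq_mul.2 hk
    obtain ⟨m, hm, e⟩ := hfus (X := {a, v})
      (Set.insert_subset (hAZ ha).1 (Set.singleton_subset_iff.2 (hAZ hv).1))
      (fun x hx => by
        rcases hx with e | e
        · rw [e]; exact hkS
        · rw [Set.mem_singleton_iff.1 e, hkv]; exact (hAZ hv).1)
    rw [← e a (Or.inl rfl)]
    exact hsemi m hm v hv hv1 (by rw [e v (Or.inr rfl), hkv]) a ha
  let θ : G → Subgroup G := fun a => centralizerPPrimeCore 2 a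
  have hcen : ∀ a ∈ A, centralizer (A : Set G) ≤ centralizer ({a} : Set G) := fun a ha =>
    centralizer_le (by simpa using ha)
  have hAc : A ≤ centralizer (A : Set G) := fun a ha =>
    mem_centralizer_iff.2 fun b hb => hA.central b hb a (hA.le ha)
  have hθ : IsSolvableSignalizerFunctor 2 A θ := by
    refine ⟨⟨fun a _ _ => Balance.centralizerPPrimeCore_le a,
      fun a _ _ => Balance.not_dvd_card_centralizerPPrimeCore a, fun a ha _ b hb x hx => ?_,
      fun a ha _ b hb hb1 => balanced A ha hb (hdec b hb hb1)⟩, fun a _ _ => ?_⟩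
    · exact (mem_normalizer_iff.1 (Balance.centralizer_le_normalizer_centralizerPPrimeCore a
        (hcen a ha (hAc hb))) x).1 hx
    · exact OddOrder.FeitThompson.isSolvable_of_odd_card (Nat.odd_iff.2
        (Nat.two_dvd_ne_zero.1 (Balance.not_dvd_card_centralizerPPrimeCore (p := 2) a)))
  have hAe : IsElementaryAbelian 2 A :=
    ⟨⟨⟨fun a b => Subtype.ext (hA.central a a.2 b (hA.le b.2))⟩⟩, hA2⟩
  obtain ⟨hW, -⟩ := (Signalizer.completes_two hAe hbig hθ).closure hAe hbig hθ.1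
  set W := signalizerClosure A θ with hWdef
  obtain ⟨H, hH, hCH⟩ : ∃ H : Subgroup G, H ≠ ⊤ ∧
      ∀ v ∈ A, v ≠ 1 → centralizer ({v} : Set G) ≤ H := by
    rcases eq_or_ne W ⊥ with hW0 | hW0
    · refine ⟨normalizer (A : Set G), fun e => hA0 ?_, fun v hv hv1 g hg => ?_⟩
      · haveI : Group.IsNilpotent A := (S.2.to_le hA.le).isNilpotent
        exact hnilp A (Subgroup.normalizer_eq_top_iff.1 e) inferInstance
      obtain ⟨o, ho, n, hn, rfl⟩ := hdec v hv hv1 g hg
      have ho1 : o = 1 := mem_bot.1 (hW0 ▸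
        le_iSup (fun a : {a : G // a ∈ A ∧ a ≠ 1} => θ (a : G)) ⟨v, hv, hv1⟩ ho)
      rw [ho1, one_mul]
      refine mem_normalizer_iff.2 fun a => ⟨fun ha => ?_, fun ha => ?_⟩
      · rwa [← mem_centralizer_iff.1 hn a ha, mul_inv_cancel_right]
      · have h1 := mem_centralizer_iff.1 (inv_mem hn) _ ha
        have h2 : a = n * a * n⁻¹ := by
          calc a = n⁻¹ * (n * a * n⁻¹) * n := by group
            _ = n * a * n⁻¹ := by rw [← h1, inv_mul_cancel_right]
        rwa [← h2] at ha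
    · refine ⟨normalizer (W : Set G), fun e => hW0 (hodd W (Subgroup.normalizer_eq_top_iff.1 e)
        ((Nat.Prime.coprime_iff_not_dvd Nat.prime_two).2 hW.2.1).symm), fun v hv hv1 g hg => ?_⟩
      obtain ⟨o, ho, n, hn, rfl⟩ := hdec v hv hv1 g hg
      refine mul_mem (Subgroup.le_normalizer
        (le_iSup (fun a : {a : G // a ∈ A ∧ a ≠ 1} => θ (a : G)) ⟨v, hv, hv1⟩ ho)) ?_
      rw [Subgroup.mem_normalizer_iff_map_conj_eq, hWdef, signalizerClosure, Subgroup.map_iSup]
      exact iSup_congr fun a => Subgroup.mem_normalizer_iff_map_conj_eq.1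
        (Balance.centralizer_le_normalizer_centralizerPPrimeCore (a : G) (hcen _ a.2.1 hn))
  obtain ⟨v, hv, hv1⟩ := A.ne_bot_iff_exists_ne_one.1 hA0 |> fun ⟨x, hx⟩ =>
    (⟨(x : G), x.2, fun e => hx (Subtype.ext e)⟩ : ∃ v ∈ A, v ≠ 1)
  have hb1 : σ v ≠ 1 := fun e => hv1 (σ.map_eq_one_iff.1 e)
  have hord : ∀ w ∈ A, w ≠ 1 → orderOf w = 2 := fun w hw hw1 => orderOf_eq_prime (hA2 w hw) hw1
  have hCH' : ∀ w ∈ A, orderOf w = 2 → centralizer ({w} : Set G) ≤ H := fun w hw hw2 =>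
    hCH w hw fun e => by rw [e, orderOf_one] at hw2; norm_num at hw2
  -- all conjugates of members of `A` lie in `H`
  have hconj : ∀ w ∈ A, w ≠ 1 → ∀ y, IsConj w y → y ∈ H := by
    intro w hw hw1 y hy
    by_cases hc : IsConj v w
    · exact Dihedral.main _ G rfl S A H hA hCH' (σ v) (hAσ v hv) w hw (hord _ (hAσ v hv) hb1)
        (hord w hw hw1) (fun h' => hsig v hv hv1 (hc.trans h'.symm)) y hy
    · exact Dihedral.main _ G rfl S A H hA hCH' v hv w hw (hord v hv hv1) (hord w hw hw1) hc y hy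
  set M := Subgroup.normalClosure (A : Set G) with hMdef
  haveI hMn : M.Normal := Subgroup.normalClosure_normal
  have hMH : M ≤ H := by
    rw [hMdef, Subgroup.normalClosure, Subgroup.closure_le]
    intro x hx
    obtain ⟨w, hw, hwx⟩ := Group.mem_conjugatesOfSet_iff.1 hx
    rcases eq_or_ne w 1 with rfl | hw1
    · rw [isConj_one_right.1 hwx]; exact one_mem H
    · exact hconj w hw hw1 x hwx
  have hMσ : ∀ x ∈ M, σ x ∈ M := by
    haveI : (M.comap σ.toMonoidHom).Normal := hMn.comap _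
    have hle : M ≤ M.comap σ.toMonoidHom := Subgroup.normalClosure_le_normal fun a ha =>
      Subgroup.subset_normalClosure (hAσ a ha)
    exact fun x hx => hle hx
  set M' := M.map τ.toMonoidHom with hM'
  haveI hM'n : M'.Normal := hMn.map _ τ.surjective
  have hM'σ : ∀ x ∈ M', σ x ∈ M' := by
    rintro _ ⟨x, hx, rfl⟩
    refine ⟨σ (σ x), hMσ _ (hMσ x hx), ?_⟩
    change τ (σ (σ x)) = σ (τ x)
    rw [h.rel, h.rel, h.s3]
  have hMτ : ∀ x ∈ M, τ x ∈ M' := fun x hx => ⟨x, hx, rfl⟩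
  have hM'τ : ∀ x ∈ M', τ x ∈ M := by
    rintro _ ⟨x, hx, rfl⟩
    change τ (τ x) ∈ M
    rwa [h.t2]
  have hMtop : M ≠ ⊤ := fun e => hH (top_le_iff.1 (e ▸ hMH))
  have hI : M ⊓ M' = ⊥ := (hmin (M ⊓ M') inferInstance
    ⟨fun x hx => ⟨hMσ x hx.1, hM'σ x hx.2⟩, fun x hx => ⟨hM'τ x hx.2, hMτ x hx.1⟩⟩).resolve_right
    fun e => hMtop (top_le_iff.1 (e.ge.trans inf_le_left))
  have hM0 : M ≠ ⊥ := fun e => hA0 (le_bot_iff.1 (e ▸ Subgroup.le_normalClosure))
  -- `σ` is fixed-point-free on `M`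
  have hfix : ∀ x ∈ M, σ x = x → x = 1 := by
    intro x hx hs
    have ht := hMτ x hx
    rw [h.tau_eq_inv hs, inv_mem_iff] at ht
    exact mem_bot.1 (hI ▸ mem_inf.2 ⟨hx, ht⟩)
  let φ : MulAut M := (σ.subgroupMap M).trans (MulEquiv.subgroupCongr (map_eq_of_maps σ hMσ))
  have hφ : ∀ x : M, (φ x : G) = σ x := fun _ => rfl
  haveI : Fact (Nat.Prime 3) := ⟨Nat.prime_three⟩
  have hφ1 : φ ≠ 1 := fun e => hM0 <| (Subgroup.eq_bot_iff_forall M).2 fun x hx =>
    hfix x hx (by rw [← hφ ⟨x, hx⟩, e]; rfl)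
  have hφ3 : φ ^ 3 = 1 := by
    refine MulEquiv.ext fun x => Subtype.ext ?_
    simp only [pow_succ, pow_zero, one_mul, MulAut.mul_apply, MulAut.one_apply, hφ]
    exact h.s3 x
  have hnil : Group.IsNilpotent M := Lib.Frobenius.Nilpotent.isNilpotent_of_orderOf φ
    (fun x hx => Subtype.ext (hfix x x.2 (congrArg Subtype.val hx))) Nat.prime_three
    (orderOf_eq_prime hφ3 hφ1)
  exact hM0 (hnilp M hMn hnil)

end Cfsg.Agent.Lib.FpfSThree23.Simple
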