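/-
Groups of order prime to `3` with a fixed-point-free `S₃` are solvable.
-/
import Mathlib
import Cfsg.Agent.Lib.FpfSThree23.Simple

set_option autoImplicit false
set_option linter.style.haveILetI false

open Subgroup Cfsg
open scoped Pointwise

namespace Cfsg.Agent.Lib.FpfSThree23.Main

open Base

universe u

theorem exists_invariant_sylow {G : Type u} [Group G] [Finite G] {σ τ : MulAut G} (h : Ops G σ τ) :
    ∃ S : Sylow 2 G, Inv σ τ (S : Subgroup G) := by
  haveI : Fact (Nat.Prime 2) := ⟨Nat.prime_two⟩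
  letI : MulDistribMulAction (Subgroup.zpowers σ) G :=
    MulDistribMulAction.compHom _ (Subgroup.zpowers σ).subtype
  have hcop : (Nat.card (Subgroup.zpowers σ)).Coprime (Nat.card G) := by
    rw [Nat.card_zpowers]
    refine Nat.Coprime.coprime_dvd_left (orderOf_dvd_of_pow_eq_one (n := 3) ?_)
      (Nat.prime_three.coprime_iff_not_dvd.2 h.h3)
    refine MulEquiv.ext fun x => ?_
    simp only [pow_succ, pow_zero, one_mul, MulAut.mul_apply, MulAut.one_apply]
    exact h.s3 x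
  obtain ⟨P, hP⟩ := Coprime.Action.exists_invariant_sylow (A := Subgroup.zpowers σ) (G := G) hcop
    (Or.inl inferInstance) 2
  have hPσ : ∀ x ∈ (P : Subgroup G), σ x ∈ (P : Subgroup G) := fun x hx =>
    hP ⟨σ, mem_zpowers σ⟩ x hx
  let Q : Sylow 2 G := P.mapSurjective (f := τ.toMonoidHom) τ.surjective
  have hQ : (Q : Subgroup G) = (P : Subgroup G).map τ.toMonoidHom := Sylow.coe_mapSurjective ..
  have hQσ : ∀ x ∈ (Q : Subgroup G), σ x ∈ (Q : Subgroup G) := by
    rw [hQ]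
    rintro _ ⟨x, hx, rfl⟩
    refine ⟨σ (σ x), hPσ _ (hPσ x hx), ?_⟩
    change τ (σ (σ x)) = σ (τ x)
    rw [h.rel, h.rel, h.s3]
  have hzp : ∀ R : Subgroup G, (∀ x ∈ R, σ x ∈ R) →
      ∀ a : Subgroup.zpowers σ, ∀ x ∈ R, a • x ∈ R := by
    intro R hR
    rintro ⟨a, ha⟩ x hx
    obtain ⟨k, rfl⟩ := Submonoid.mem_powers_iff _ _ |>.1
      (((isOfFinOrder_of_finite σ).mem_powers_iff_mem_zpowers).2 ha)
    change (σ ^ k) x ∈ R
    clear ha
    induction k with
    | zero => simpa using hx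
    | succ k ih => rw [pow_succ', MulAut.mul_apply]; exact hR _ ih
  obtain ⟨c, hc, hcPQ⟩ := Coprime.Action.exists_conj_invariant_sylow (A := Subgroup.zpowers σ) hcop
    (Or.inl inferInstance) P Q (hzp _ hPσ) (hzp _ hQσ)
  have hcσ : σ c = c := hc ⟨σ, mem_zpowers σ⟩
  obtain ⟨k, hk⟩ := h.fix_odd hcσ
  set d := c ^ (k + 1) with hd
  have hdd : d * d = c := by
    rw [hd, ← pow_add, show k + 1 + (k + 1) = orderOf c + 1 by omega, pow_succ, pow_orderOf_eq_one,
      one_mul]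
  have hdσ : σ d = d := by rw [hd, map_pow, hcσ]
  refine ⟨d • P, ?_⟩
  rw [Sylow.coe_subgroup_smul,
    show MulAut.conj d • (P : Subgroup G) = (P : Subgroup G).map (MulAut.conj d).toMonoidHom from rfl]
  refine ⟨?_, ?_⟩
  · rintro _ ⟨x, hx, rfl⟩
    exact ⟨σ x, hPσ x hx, by simp [hdσ]⟩
  · rintro _ ⟨x, hx, rfl⟩
    have h1 : τ x ∈ MulAut.conj c • (P : Subgroup G) := by
      rw [hcPQ, hQ]; exact ⟨x, hx, rfl⟩
    obtain ⟨y, hy, hyx⟩ := h1
    refine ⟨y, hy, ?_⟩
    change d * y * d⁻¹ = τ (d * x * d⁻¹)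
    rw [map_mul, map_mul, map_inv, h.tau_eq_inv hdσ, ← hyx]
    change d * y * d⁻¹ = d⁻¹ * (c * y * c⁻¹) * d⁻¹⁻¹
    rw [← hdd]
    group

theorem isSolvable : ∀ (n : ℕ) (G : Type u) [Group G] [Finite G] (σ τ : MulAut G),
    Nat.card G = n → Ops G σ τ → Group.IsSolvable G := by
  intro n
  induction n using Nat.strong_induction_on with
  | _ n ih =>
    intro G _ _ σ τ hn h
    by_contra hns
    have hsub : ∀ N : Subgroup G, Inv σ τ N → N ≠ ⊤ → Group.IsSolvable N := fun N hN hne => by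
      obtain ⟨σ', τ', h', -, -⟩ := h.restrict hN
      exact ih _ (hn ▸ lt_of_le_of_ne (card_le_card_group _)
        fun e => hne (eq_top_of_card_eq _ e)) N σ' τ' rfl h'
    have hmin : ∀ N : Subgroup G, N.Normal → Inv σ τ N → N = ⊥ ∨ N = ⊤ := by
      intro N hN hNi
      by_contra hcon
      push Not at hcon
      haveI := hN
      obtain ⟨σ', τ', h', -, -⟩ := h.quotient hNi
      haveI : Group.IsSolvable (G ⧸ N) := ih _ (by
        rw [← hn, Subgroup.card_eq_card_quotient_mul_card_subgroup N]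
        exact lt_mul_of_one_lt_right Nat.card_pos (one_lt_card_iff_ne_bot N |>.2 hcon.1)) _ σ' τ'
        rfl h'
      haveI := hsub N hNi hcon.2
      exact hns (Group.isSolvable_of_ker_le_range N.subtype (QuotientGroup.mk' N)
        (by simp))
    haveI : Fact (Nat.Prime 2) := ⟨Nat.prime_two⟩
    obtain ⟨S, hS⟩ := exists_invariant_sylow h
    have hloc : ∀ T : Subgroup G, IsPGroup 2 T → Inv σ τ T → T ≠ ⊥ →
        Group.IsSolvable ↥(normalizer (T : Set G)) := by
      intro T hT hTi hT0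
      refine hsub _ hTi.normalizer fun e => ?_
      rcases hmin T (Subgroup.normalizer_eq_top_iff.1 e) hTi with e' | e'
      · exact hT0 e'
      · subst e'
        haveI := (hT.of_equiv Subgroup.topEquiv).isNilpotent
        exact hns inferInstance
    have hS0 : (S : Subgroup G) ≠ ⊥ := by
      refine S.ne_bot_of_dvd_card ?_
      by_contra hd
      exact hns (OddOrder.FeitThompson.isSolvable_of_odd_card
        (Nat.odd_iff.2 (Nat.two_dvd_ne_zero.1 hd)))
    have hJ : Inv σ τ (thompsonSubgroupOf 2 (S : Subgroup G)) := by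
      refine ⟨fun x hx => ?_, fun x hx => ?_⟩
      · have := mem_map_of_mem σ.toMonoidHom hx
        rwa [PGroups.map_thompsonSubgroupOf _ σ.injective, map_eq_of_maps σ hS.1] at this
      · have := mem_map_of_mem τ.toMonoidHom hx
        rwa [PGroups.map_thompsonSubgroupOf _ τ.injective, map_eq_of_maps τ hS.2] at this
    have hJ0 : thompsonSubgroupOf 2 (S : Subgroup G) ≠ ⊥ :=
      Frobenius.PComplement.thompsonSubgroupOf_ne_bot S.2 hS0
    exact Simple.not_solvable_false hns h hmin S hS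
      (hloc _ (S.2.to_le (PGroups.thompsonSubgroupOf_le 2 _)) hJ hJ0) (hloc _ S.2 hS hS0)

/-- The theorem, for a group of automorphisms isomorphic to `S₃`. -/
theorem statement {G : Type u} [Group G] [Finite G] (h3 : ¬ 3 ∣ Nat.card G)
    (Sig : Subgroup (MulAut G)) (hS3 : Nonempty (↥Sig ≃* Equiv.Perm (Fin 3)))
    (hfpf : ∀ g : G, (∀ σ ∈ Sig, σ g = g) → g = 1) :
    Group.IsSolvable G ∧ ¬ 2 ∣ (Cfsg.pPrimePCore 2 G).index ∧ ∀ σ ∈ Sig, orderOf σ = 3 →
      Cfsg.pPrimePCore 2 G ⊔ Subgroup.closure {g : G | σ g = g} = ⊤ := by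
  obtain ⟨e⟩ := hS3
  have key : ∀ c : Equiv.Perm (Fin 3), orderOf c = 3 → ∃ t : Equiv.Perm (Fin 3),
      Ops G ((e.symm c : Sig) : MulAut G) ((e.symm t : Sig) : MulAut G) := by
    intro c hc
    have hdec₁ : ∀ c : Equiv.Perm (Fin 3), c ≠ 1 → c * c * c = 1 →
        Equiv.swap 0 1 * c = c * c * Equiv.swap 0 1 := by decide
    have hdec₂ : ∀ c : Equiv.Perm (Fin 3), c ≠ 1 → c * c * c = 1 → ∀ γ : Equiv.Perm (Fin 3),
        γ = 1 ∨ γ = c ∨ γ = c * c ∨ γ = Equiv.swap 0 1 ∨ γ = c * Equiv.swap 0 1 ∨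
          γ = c * c * Equiv.swap 0 1 := by decide
    have hc1 : c ≠ 1 := fun e' => by rw [e', orderOf_one] at hc; norm_num at hc
    have hc3 : c ^ 3 = 1 := by
      have := pow_orderOf_eq_one c
      rwa [hc] at this
    have hc3' : c * c * c = 1 := by rw [← hc3, pow_succ, pow_succ, pow_one]
    obtain ⟨t, ht2, hrel, hgen⟩ : ∃ t : Equiv.Perm (Fin 3), t * t = 1 ∧ t * c = c * c * t ∧
        ∀ γ, γ = 1 ∨ γ = c ∨ γ = c * c ∨ γ = t ∨ γ = c * t ∨ γ = c * c * t :=
      ⟨Equiv.swap 0 1, Equiv.swap_mul_self 0 1, hdec₁ c hc1 hc3', hdec₂ c hc1 hc3'⟩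
    let ψ : Equiv.Perm (Fin 3) →* MulAut G := Sig.subtype.comp e.symm.toMonoidHom
    refine ⟨t, ⟨fun g => ?_, fun g => ?_, fun g => ?_, fun g hs ht => hfpf g fun ρ hρ => ?_, h3⟩⟩
    · change ψ c (ψ c (ψ c g)) = g
      rw [← MulAut.mul_apply, ← MulAut.mul_apply, ← map_mul, ← map_mul,
        show c * c * c = c ^ 3 by rw [pow_succ, pow_succ, pow_one],
        hc3, map_one]
      rfl
    · change ψ t (ψ t g) = g
      rw [← MulAut.mul_apply, ← map_mul, ht2, map_one]
      rfl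
    · change ψ t (ψ c g) = ψ c (ψ c (ψ t g))
      rw [← MulAut.mul_apply, ← MulAut.mul_apply, ← MulAut.mul_apply, ← map_mul, ← map_mul,
        ← map_mul, hrel, mul_assoc]
    · change ψ c g = g at hs
      change ψ t g = g at ht
      obtain ⟨γ, rfl⟩ : ∃ γ, ψ γ = ρ := ⟨e ⟨ρ, hρ⟩, by simp [ψ]⟩
      rcases hgen γ with rfl | rfl | rfl | rfl | rfl | rfl <;>
        simp [map_mul, MulAut.mul_apply, hs, ht]
  obtain ⟨t₀, h₀⟩ := key (finRotate 3) (by
    refine orderOf_eq_prime (hp := ⟨Nat.prime_three⟩) ?_ ?_ <;> decide)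
  haveI := isSolvable _ G _ _ rfl h₀
  refine ⟨this, (Structure.main h₀).2.2, fun σ hσ hσ3 => ?_⟩
  obtain ⟨c, rfl⟩ : ∃ c, ((e.symm c : Sig) : MulAut G) = σ := ⟨e ⟨σ, hσ⟩, by simp⟩
  obtain ⟨t, ht⟩ := key c (by
    rw [Subgroup.orderOf_coe, MulEquiv.orderOf_eq] at hσ3; exact hσ3)
  refine eq_top_iff.2 fun g _ => ?_
  obtain ⟨n, hn, hfix⟩ := (Structure.main ht).2.1 g
  rw [show g = g * n * n⁻¹ by group]
  exact mul_mem (mem_sup_right (subset_closure hfix)) (mem_sup_left (inv_mem hn))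

end Cfsg.Agent.Lib.FpfSThree23.Main
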